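import Cfsg.Agent.Lib.MixedPQ.Local

/-!
# The extremal case: strongly real elements

When `p`-elements commuting with an involution centralise its Sylow `2`-subgroups, the centraliser of a
strongly real element of odd order is an inverted Sylow `p`-subgroup.  Owner: helper31.
-/

set_option autoImplicit false
set_option linter.unusedSectionVars false
set_option linter.style.haveILetI false

namespace Cfsg.Agent.Lib.MixedPQ

open Cfsg.Agent.Lib.Involutions.Basic

variable {G : Type*} [Group G] [Finite G] {p a : ℕ}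

/-- `p`-elements commuting with an involution `t` centralise the Sylow `2`-subgroups at `t`. -/
def Split (p a : ℕ) (G : Type*) [Group G] : Prop :=
  ∀ W : Subgroup G, Nat.card W = 2 ^ a → ∀ t ∈ W, t ≠ 1 → ∀ x : G, IsP p x → Commute x t →
    x ∈ Subgroup.centralizer (W : Set G)

/-- A fixed-point-free automorphism of order `2` of a finite subgroup inverts it. -/
theorem inverts_of_fpf {C : Subgroup G} {u : G} (hu : u * u = 1)
    (hinv : ∀ c ∈ C, u * c * u⁻¹ ∈ C) (hfix : ∀ c ∈ C, Commute c u → c = 1) {c : G} (hc : c ∈ C) :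
    u * c * u⁻¹ = c⁻¹ := by
  let f : C → C := fun d => ⟨(d : G)⁻¹ * (u * d * u⁻¹), mul_mem (inv_mem d.2) (hinv d d.2)⟩
  have hf : Function.Injective f := fun d e hde => by
    have h0 : (d : G)⁻¹ * (u * d * u⁻¹) = (e : G)⁻¹ * (u * e * u⁻¹) := congrArg Subtype.val hde
    have h1 : Commute ((d : G) * (e : G)⁻¹) u := by
      refine eq_mul_inv_iff_mul_eq.1 ?_
      have h2 : (e : G) * (d : G)⁻¹ * (u * d * u⁻¹) = u * e * u⁻¹ := by
        rw [mul_assoc, h0, mul_inv_cancel_left]
      calc (d : G) * (e : G)⁻¹ = ((e : G) * (d : G)⁻¹)⁻¹ := by group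
        _ = ((u * e * u⁻¹) * (u * d * u⁻¹)⁻¹)⁻¹ := by
          rw [← h2, mul_inv_cancel_right]
        _ = u * ((d : G) * (e : G)⁻¹) * u⁻¹ := by group
    exact Subtype.ext (mul_inv_eq_one.1 (hfix _ (mul_mem d.2 (inv_mem e.2)) h1))
  obtain ⟨d, hd⟩ := Finite.surjective_of_injective hf ⟨c, hc⟩
  have hd' : (d : G)⁻¹ * (u * d * u⁻¹) = c := congrArg Subtype.val hd
  have hu' : u⁻¹ = u := inv_eq_of_mul_eq_one_left hu
  rw [← hd', mul_inv_rev, inv_inv, hu']
  calc u * ((d : G)⁻¹ * (u * d * u)) * u = u * (d : G)⁻¹ * u * (d : G) * (u * u) := by group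
    _ = (u * d * u)⁻¹ * d := by rw [hu, mul_one, mul_inv_rev, mul_inv_rev, hu']; group

namespace Crit

variable (h : Crit p a G)
include h

theorem split_of_trivial (h0 : ∀ t : G, orderOf t = 2 → ∀ x : G, IsP p x → Commute x t → x = 1) :
    Split p a G := fun W hW t ht ht1 x hx hxt => by
  rw [h0 t (h.full_invol hW ht ht1) x hx hxt]
  exact one_mem _

theorem split_of_exists {W : Subgroup G} (hW : Nat.card W = 2 ^ a) {k : G} (hk : IsP p k)
    (hk1 : k ≠ 1) (hkW : k ∈ Subgroup.centralizer (W : Set G)) : Split p a G := by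
  intro V hV t ht ht1 x hx hxt
  obtain ⟨g, hg⟩ := h.full_conj hW hV
  set k' := g * k * g⁻¹ with hk'
  have hk'V : k' ∈ Subgroup.centralizer (V : Set G) := by
    rw [Subgroup.mem_centralizer_iff]
    intro v hv
    have e := Subgroup.mem_centralizer_iff.1 hkW _ ((hg v).1 hv)
    calc v * k' = g * ((g⁻¹ * v * g) * k) * g⁻¹ := by rw [hk']; group
      _ = g * (k * (g⁻¹ * v * g)) * g⁻¹ := by rw [e]
      _ = k' * v := by rw [hk']; group
  have hk'1 : k' ≠ 1 := fun e => hk1 (conj_eq_one_iff.1 e)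
  have hxk : Commute x k' := h.comm_of_commute_invol (h.full_invol hV ht ht1) hx hxt (hk.conj g)
    (Subgroup.mem_centralizer_iff.1 hk'V t ht).symm
  exact h.fix_centralizes (IsPGroup.of_card hV) hx
    (h.centralizer_le_normalizer hV (hk.conj g) hk'1 hk'V hxk) ht ht1 hxt

/-- An element of odd order inverted by an involution is a `p`-element. -/
theorem isP_of_inverted {u x : G} (hu : orderOf u = 2) (hodd : Odd (orderOf x))
    (hinv : u * x * u⁻¹ = x⁻¹) : IsP p x := by
  refine isP_of_forall fun s hs hd => ?_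
  by_contra hsp
  have hs2 : s ≠ 2 := fun e => Nat.not_even_iff_odd.2 hodd (even_iff_two_dvd.2 (e ▸ hd))
  haveI := Fact.mk hs
  set x' := x ^ (orderOf x / s) with hx'
  have ho : orderOf x' = s := orderOf_pow_orderOf_div (orderOf_pos x).ne' hd
  refine h.mix.not_normalize' h.pprime Nat.prime_two h.p_ne hs hsp hs2 (R := Subgroup.zpowers x')
    (IsPGroup.of_card (n := 1) (by rw [Nat.card_zpowers, ho, pow_one]))
    (fun e => hs.one_lt.ne' (by rw [← ho, Subgroup.zpowers_eq_bot.1 e, orderOf_one])) hu ?_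
  refine mem_normalizer_of fun z hz => ?_
  obtain ⟨i, rfl⟩ := Subgroup.mem_zpowers_iff.1 hz
  rw [← conj_zpow, hx', ← conj_pow, hinv, inv_pow, ← hx']
  exact zpow_mem (inv_mem (Subgroup.mem_zpowers x')) i

/-- The centraliser of a strongly real element of odd order. -/
theorem real_data (hS : Split p a G) {u x : G} (hu : orderOf u = 2) (hx1 : x ≠ 1)
    (hodd : Odd (orderOf x)) (hinv : u * x * u⁻¹ = x⁻¹) :
    (∀ v : G, orderOf v = 2 → ¬ Commute x v) ∧
      ∀ c : G, Commute c x → IsP p c ∧ u * c * u⁻¹ = c⁻¹ := by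
  have hp := h.pprime
  have hxP : IsP p x := h.isP_of_inverted hu hodd hinv
  have hu1 := invol_mul_self hu
  have hui : u⁻¹ = u := invol_inv hu
  have sq1 : ∀ {z : G}, IsP p z → z = z⁻¹ → z = 1 := fun {z} hz e =>
    hz.eq_one_of_dvd hp h.p_ne (n := 1) (orderOf_dvd_of_pow_eq_one (by
      rw [pow_one, sq]; nth_rewrite 2 [e]; exact mul_inv_cancel z))
  have hA : ∀ v : G, orderOf v = 2 → ¬ Commute x v := by
    intro v hv hxv
    haveI := Fact.mk Nat.prime_two
    obtain ⟨V, hV, hle⟩ := h.exists_full_ge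
      (IsPGroup.of_card (n := 1) (by rw [Nat.card_zpowers, hv, pow_one] : Nat.card (Subgroup.zpowers v) = _))
    have hvV : v ∈ V := hle (Subgroup.mem_zpowers v)
    have hxV := hS V hV v hvV (invol_ne_one hv) x hxP hxv
    -- `u` normalises `V`
    have huV : u ∈ Subgroup.normalizer (V : Set G) := by
      refine mem_normalizer_of fun w hw => ?_
      set V' := V.map (MulAut.conj u).toMonoidHom with hV'
      have hV'c : Nat.card V' = 2 ^ a := by
        rw [hV', Subgroup.card_map_of_injective (MulEquiv.injective (MulAut.conj u)), hV]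
      have hV'x : ∀ z ∈ V', Commute z x := by
        rintro _ ⟨z, hz, rfl⟩
        have e : Commute z x := Subgroup.mem_centralizer_iff.1 hxV z hz
        have e2 := (e.map (MulAut.conj u).toMonoidHom).inv_right
        simp only [MulEquiv.coe_toMonoidHom, MulAut.conj_apply, hinv, inv_inv] at e2
        simpa using e2
      have hsup : IsPGroup 2 (V' ⊔ V : Subgroup G) :=
        IsPGroup.to_sup_of_normal_right' (IsPGroup.of_card hV'c) (IsPGroup.of_card hV)
          fun z hz => h.centralizer_le_normalizer hV hxP hx1 hxV (hV'x z hz)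
      have heq := Subgroup.eq_of_le_of_card_ge (le_sup_right : V ≤ V' ⊔ V)
        (hV ▸ h.card_le_of_twoGroup hsup)
      rw [heq]
      exact Subgroup.mem_sup_left ⟨w, hw, rfl⟩
    have hsup : IsPGroup 2 (Subgroup.zpowers u ⊔ V : Subgroup G) :=
      IsPGroup.to_sup_of_normal_right'
        (IsPGroup.of_card (n := 1) (by rw [Nat.card_zpowers, hu, pow_one])) (IsPGroup.of_card hV)
        (Subgroup.zpowers_le.2 huV)
    have heq := Subgroup.eq_of_le_of_card_ge (le_sup_right : V ≤ Subgroup.zpowers u ⊔ V)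
      (hV ▸ h.card_le_of_twoGroup hsup)
    have huV' : u ∈ V := heq ▸ Subgroup.mem_sup_left (Subgroup.mem_zpowers u)
    refine hx1 (sq1 hxP ?_)
    rw [← hinv, Subgroup.mem_centralizer_iff.1 hxV u huV', mul_inv_cancel_right]
  have hoddc : ∀ c : G, Commute c x → Odd (orderOf c) := fun c hc => by
    rw [← Nat.not_even_iff_odd]
    exact fun he => hA _ (orderOf_pow_half he) (hc.symm.pow_right _)
  refine ⟨hA, fun c hc => ?_⟩
  have hCinv : ∀ d ∈ Subgroup.centralizer ({x} : Set G), u * d * u⁻¹ ∈ Subgroup.centralizer ({x} : Set G) := by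
    intro d hd
    have e : Commute d x := Subgroup.mem_centralizer_singleton_iff.1 hd
    have e2 := (e.map (MulAut.conj u).toMonoidHom).inv_right
    simp only [MulEquiv.coe_toMonoidHom, MulAut.conj_apply, hinv, inv_inv] at e2
    exact Subgroup.mem_centralizer_singleton_iff.2 e2
  have hinvc : u * c * u⁻¹ = c⁻¹ := by
    refine inverts_of_fpf hu1 hCinv (fun d hd hdu => ?_) (Subgroup.mem_centralizer_singleton_iff.2 hc)
    have hdx : Commute d x := Subgroup.mem_centralizer_singleton_iff.1 hd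
    by_contra hd1
    haveI := Fact.mk Nat.prime_two
    obtain ⟨V, hV, hle⟩ := h.exists_full_ge
      (IsPGroup.of_card (n := 1) (by rw [Nat.card_zpowers, hu, pow_one] : Nat.card (Subgroup.zpowers u) = _))
    have huV : u ∈ V := hle (Subgroup.mem_zpowers u)
    have hdP := h.isP_of_commute hu hdu (hoddc d hdx)
    have hxn := h.centralizer_le_normalizer hV hdP hd1 (hS V hV u huV (invol_ne_one hu) d hdP hdu)
      hdx.symm
    have h1 : u * x * u * x⁻¹ ∈ V := by
      rw [show u * x * u * x⁻¹ = u * (x * u * x⁻¹) by group]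
      exact mul_mem huV ((Subgroup.mem_normalizer_iff.1 hxn u).1 huV)
    rw [hui] at hinv
    rw [hinv] at h1
    refine hx1 (sq1 hxP ?_)
    have h2 : x⁻¹ * x⁻¹ = 1 := by
      refine inter_eq_one hp h.p_ne hV ?_ h1
      obtain ⟨i, hi⟩ := hxP
      obtain ⟨j, hj, hj'⟩ := (Nat.dvd_prime_pow hp).1
        ((orderOf_inv x).trans hi ▸ (orderOf_pow_dvd 2 : orderOf (x⁻¹ ^ 2) ∣ orderOf x⁻¹))
      exact ⟨j, by rwa [sq] at hj'⟩
    exact ((eq_inv_of_mul_eq_one_left h2).trans (inv_inv x)).symm
  exact ⟨h.isP_of_inverted hu (hoddc c hc) hinvc, hinvc⟩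

/-- Commuting of involutions with product of even order. -/
theorem even_commute (hS : Split p a G) {u v : G} (hu : orderOf u = 2) (hv : orderOf v = 2)
    (heven : Even (orderOf (u * v))) : Commute u v := by
  haveI := Fact.mk Nat.prime_two
  obtain ⟨hw, hwu, hwv⟩ := central_invol hu hv heven
  set w := (u * v) ^ (orderOf (u * v) / 2)
  obtain ⟨V, hV, hle⟩ := h.exists_full_ge
    (IsPGroup.of_card (n := 1) (by rw [Nat.card_zpowers, hw, pow_one] : Nat.card (Subgroup.zpowers w) = _))
  have hwV : w ∈ V := hle (Subgroup.mem_zpowers w)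
  obtain ⟨M, hM, hmem, -, hdec⟩ := h.exists_centralizer_data hw
  have key : ∀ z : G, orderOf z = 2 → Commute z w → z ∈ V := by
    intro z hz hzw
    obtain ⟨m, hm, x, hx, rfl⟩ := hdec V hV hwV z hzw
    have hc : Commute m x := (Subgroup.mem_centralizer_iff.1
      (hS V hV w hwV (invol_ne_one hw) m ((hmem m).1 hm).1 ((hmem m).1 hm).2) x hx).symm
    have e := invol_mul_self hz
    rw [← sq, hc.mul_pow, sq x, h.full_sq hV hx, mul_one] at e
    rw [((hmem m).1 hm).1.eq_one_of_dvd h.pprime h.p_ne (n := 1)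
      (orderOf_dvd_of_pow_eq_one (by rwa [pow_one])), one_mul]
    exact hx
  exact h.full_comm hV (key u hu hwu.symm) (key v hv hwv.symm)

/-- Every involution inverts a non-trivial element of odd order. -/
theorem exists_real (hS : Split p a G) {t : G} (ht : orderOf t = 2) :
    ∃ x : G, x ≠ 1 ∧ Odd (orderOf x) ∧ t * x * t⁻¹ = x⁻¹ := by
  by_contra hne
  push Not at hne
  have hti := invol_inv ht
  have hall : ∀ v : G, orderOf v = 2 → Commute t v := by
    intro v hv
    rcases Nat.even_or_odd (orderOf (t * v)) with he | ho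
    · exact h.even_commute hS ht hv he
    · rcases eq_or_ne (t * v) 1 with h1 | h1
      · have : v = t := by rw [← hti]; exact eq_inv_of_mul_eq_one_right h1
        rw [this]
      · exact absurd (by rw [hti]; exact invert_mul (invol_mul_self ht) (invol_mul_self hv)) (hne _ h1 ho)
  have hcomm : ∀ u v : G, orderOf u = 2 → orderOf v = 2 → Commute u v := by
    intro u v hu hv
    obtain ⟨g, rfl⟩ := isConj_iff.1 (h.isConj_invol ht hu)
    have h1 : orderOf (g⁻¹ * v * g) = 2 := by
      rw [← hv]; simpa using Involutions.Basic.orderOf_conj_eq g⁻¹ v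
    have h2 := (hall _ h1).map (MulAut.conj g).toMonoidHom
    simpa [mul_assoc] using h2
  obtain ⟨W, hW⟩ := h.exists_full
  have hIW : ∀ v : G, orderOf v = 2 → v ∈ W := by
    intro v hv
    haveI := Fact.mk Nat.prime_two
    have hsup : IsPGroup 2 (Subgroup.zpowers v ⊔ W : Subgroup G) :=
      IsPGroup.to_sup_of_normal_right'
        (IsPGroup.of_card (n := 1) (by rw [Nat.card_zpowers, hv, pow_one])) (IsPGroup.of_card hW)
        (Subgroup.zpowers_le.2 (mem_normalizer_of_centralizer (Subgroup.mem_centralizer_iff.2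
          fun w hw => by
            rcases eq_or_ne w 1 with rfl | hw1
            · simp
            · exact hcomm w v (h.full_invol hW hw hw1) hv)))
    have heq := Subgroup.eq_of_le_of_card_ge (le_sup_right : W ≤ Subgroup.zpowers v ⊔ W)
      (hW ▸ h.card_le_of_twoGroup hsup)
    exact heq ▸ Subgroup.mem_sup_left (Subgroup.mem_zpowers v)
  obtain ⟨r, hr, hrp, hr2, hrG⟩ := h.bad
  haveI := Fact.mk hr
  obtain ⟨x, hx⟩ := exists_prime_orderOf_dvd_card' r hrG
  refine h.mix.not_normalize h.pprime Nat.prime_two h.p_ne hr hrp hr2 (IsPGroup.of_card hW) ?_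
    hx.symm.dvd (mem_normalizer_of fun w hw => ?_)
  · intro e
    rw [e, Subgroup.card_bot] at hW
    exact (Nat.one_lt_two_pow (by have := h.two_le; omega)).ne hW
  · rcases eq_or_ne w 1 with rfl | hw1
    · simp
    · exact hIW _ (by rw [Involutions.Basic.orderOf_conj_eq]; exact h.full_invol hW hw hw1)

theorem isP_of_commute_real (hS : Split p a G) {u x c : G} (hu : orderOf u = 2) (hx1 : x ≠ 1)
    (hodd : Odd (orderOf x)) (hinv : u * x * u⁻¹ = x⁻¹) (hc : Commute c x) : IsP p c :=
  ((h.real_data hS hu hx1 hodd hinv).2 c hc).1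

/-- The centraliser of a strongly real element is a Sylow `p`-subgroup. -/
theorem real_sylow (hS : Split p a G) {u x : G} (hu : orderOf u = 2) (hx1 : x ≠ 1)
    (hodd : Odd (orderOf x)) (hinv : u * x * u⁻¹ = x⁻¹) :
    ∃ P : Sylow p G, (P : Subgroup G) = Subgroup.centralizer ({x} : Set G) := by
  have hxP := h.isP_of_inverted hu hodd hinv
  haveI := Fact.mk h.pprime
  refine ⟨⟨Subgroup.centralizer ({x} : Set G), ?_, fun {Q} hQ hle => le_antisymm (fun q hq => ?_) hle⟩, rfl⟩
  · exact IsPGroup.iff_orderOf.2 fun c => by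
      obtain ⟨i, hi⟩ := h.isP_of_commute_real hS hu hx1 hodd hinv
        (Subgroup.mem_centralizer_singleton_iff.1 c.2)
      exact ⟨i, by rw [← Subgroup.orderOf_coe, hi]⟩
  · exact Subgroup.mem_centralizer_singleton_iff.2
      (h.ab Q hQ q hq x (hle (Subgroup.mem_centralizer_singleton_iff.2 rfl))).eq

/-- No non-trivial `p`-element centralises a Sylow `2`-subgroup. -/
theorem cent_full_trivial {W : Subgroup G} (hW : Nat.card W = 2 ^ a) {k : G} (hk : IsP p k)
    (hkW : k ∈ Subgroup.centralizer (W : Set G)) : k = 1 := by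
  by_contra hk1
  haveI := Fact.mk h.pprime
  haveI := Fact.mk Nat.prime_two
  have hS := h.split_of_exists hW hk hk1 hkW
  obtain ⟨t₀, ht₀⟩ := exists_prime_orderOf_dvd_card' (G := W) 2
    (hW ▸ dvd_pow_self 2 (by have := h.two_le; omega))
  have ht : orderOf (t₀ : G) = 2 := by rw [Subgroup.orderOf_coe, ht₀]
  obtain ⟨x, hx1, hodd, hinv⟩ := h.exists_real hS ht
  obtain ⟨P, hP⟩ := h.real_sylow hS ht hx1 hodd hinv
  obtain ⟨S, hS'⟩ := hk.isPGroup_zpowers.exists_le_sylow
  obtain ⟨g, hg⟩ := MulAction.exists_smul_eq G S P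
  have hc : g * k * g⁻¹ ∈ (P : Subgroup G) := by
    rw [← hg, Sylow.coe_subgroup_smul]
    exact Subgroup.smul_mem_pointwise_smul k (MulAut.conj g) _ (hS' (Subgroup.mem_zpowers k))
  rw [hP, Subgroup.mem_centralizer_singleton_iff] at hc
  obtain ⟨hkP, hkinv⟩ := (h.real_data hS ht hx1 hodd hinv).2 _ hc
  refine (h.real_data hS ht (fun e => hk1 (conj_eq_one_iff.1 e))
    (hkP.odd h.pprime h.p_ne) hkinv).1 (g * t₀ * g⁻¹)
    (by rw [Involutions.Basic.orderOf_conj_eq]; exact ht) ?_
  exact Commute.map (f := (MulAut.conj g).toMonoidHom)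
    (Subgroup.mem_centralizer_iff.1 hkW t₀ t₀.2).symm

end Crit

end Cfsg.Agent.Lib.MixedPQ
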