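import Cfsg.Prelude.Def_Transfer
import Cfsg.Agent.Lib.Transfer.Frobenius
import Cfsg.Agent.Lib.Cores.Basic

/-!
# Groups whose mixed proper `q`-subgroups have order divisible by `p`

`Mix p q G`: `p ∣ |G|` and `p` divides the order of every proper subgroup that is neither a `q`-group
nor of order prime to `q`.  Owner: helper31.
-/

set_option autoImplicit false
set_option linter.unusedSectionVars false
set_option linter.style.haveILetI false

namespace Cfsg.Agent.Lib.MixedPQ

variable {G : Type*} [Group G] [Finite G]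

/-- The hypothesis on mixed subgroups. -/
structure Mix (p q : ℕ) (G : Type*) [Group G] : Prop where
  mix : ∀ H : Subgroup G, H ≠ ⊤ → ¬ IsPGroup q H → q ∣ Nat.card H → p ∣ Nat.card H
  pG : p ∣ Nat.card G

/-- `x` has order a power of `p`. -/
def IsP (p : ℕ) (x : G) : Prop := ∃ i : ℕ, orderOf x = p ^ i

variable {p q : ℕ}

theorem prime_dvd_sup {H K : Subgroup G} (hHK : H ≤ Subgroup.normalizer (K : Set G)) {s : ℕ}
    (hs : s.Prime) (h : s ∣ Nat.card ↥(H ⊔ K)) : s ∣ Nat.card H ∨ s ∣ Nat.card K := by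
  set N := Subgroup.normalizer (K : Set G) with hN
  have hle : H ⊔ K ≤ N := sup_le hHK Subgroup.le_normalizer
  have hKn : (K.subgroupOf N).Normal := Subgroup.normal_in_normalizer
  have h1 := Cores.card_sup_dvd_mul (H.subgroupOf N) (K.subgroupOf N)
  rw [← Subgroup.subgroupOf_sup hHK Subgroup.le_normalizer,
    Nat.card_congr (Subgroup.subgroupOfEquivOfLe hle).toEquiv,
    Nat.card_congr (Subgroup.subgroupOfEquivOfLe hHK).toEquiv,
    Nat.card_congr (Subgroup.subgroupOfEquivOfLe (Subgroup.le_normalizer : K ≤ N)).toEquiv] at h1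
  exact hs.dvd_mul.1 (h.trans h1)

theorem card_sup_zpowers_dvd {K : Subgroup G} {u : G} (hu : u ∈ Subgroup.normalizer (K : Set G)) :
    Nat.card ↥(Subgroup.zpowers u ⊔ K) ∣ orderOf u * Nat.card K := by
  set N := Subgroup.normalizer (K : Set G) with hN
  have hH : Subgroup.zpowers u ≤ N := Subgroup.zpowers_le.2 hu
  have hle : Subgroup.zpowers u ⊔ K ≤ N := sup_le hH Subgroup.le_normalizer
  have hKn : (K.subgroupOf N).Normal := Subgroup.normal_in_normalizer
  have h1 := Cores.card_sup_dvd_mul ((Subgroup.zpowers u).subgroupOf N) (K.subgroupOf N)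
  rwa [← Subgroup.subgroupOf_sup hH Subgroup.le_normalizer,
    Nat.card_congr (Subgroup.subgroupOfEquivOfLe hle).toEquiv,
    Nat.card_congr (Subgroup.subgroupOfEquivOfLe hH).toEquiv,
    Nat.card_congr (Subgroup.subgroupOfEquivOfLe (Subgroup.le_normalizer : K ≤ N)).toEquiv,
    Nat.card_zpowers] at h1

theorem eq_of_prime_dvd_card {r s : ℕ} (hr : r.Prime) (hs : s.Prime) {H : Subgroup G}
    (hH : IsPGroup r H) (h : s ∣ Nat.card H) : s = r := by
  haveI := Fact.mk hr
  obtain ⟨k, hk⟩ := IsPGroup.iff_card.mp hH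
  exact (Nat.prime_dvd_prime_iff_eq hs hr).1 (hs.dvd_of_dvd_pow (hk ▸ h))

theorem dvd_card_of_ne_bot {r : ℕ} [Fact r.Prime] {H : Subgroup G} (hH : IsPGroup r H) (hne : H ≠ ⊥) :
    r ∣ Nat.card H := by
  obtain ⟨k, hk⟩ := IsPGroup.iff_card.mp hH
  rcases Nat.eq_zero_or_pos k with rfl | h0
  · exact absurd (Subgroup.card_eq_one.1 (by simpa using hk)) hne
  · exact hk ▸ dvd_pow_self r h0.ne'

theorem IsP.inv {x : G} (h : IsP p x) : IsP p x⁻¹ := by rwa [IsP, orderOf_inv]

theorem IsP.conj {x : G} (h : IsP p x) (g : G) : IsP p (g * x * g⁻¹) := by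
  obtain ⟨i, hi⟩ := h
  refine ⟨i, ?_⟩
  rw [← hi, show g * x * g⁻¹ = MulAut.conj g x from rfl, MulEquiv.orderOf_eq]

theorem IsP.of_mem [Fact p.Prime] {H : Subgroup G} (hH : IsPGroup p H) {x : G} (hx : x ∈ H) :
    IsP p x := by
  obtain ⟨i, hi⟩ := (IsPGroup.iff_orderOf.1 hH) ⟨x, hx⟩
  exact ⟨i, by rwa [Subgroup.orderOf_mk] at hi⟩

theorem IsP.isPGroup_zpowers [Fact p.Prime] {x : G} (h : IsP p x) :
    IsPGroup p (Subgroup.zpowers x) := by
  obtain ⟨i, hi⟩ := h
  exact IsPGroup.of_card (n := i) (by rw [Nat.card_zpowers, hi])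

theorem isP_one : IsP p (1 : G) := ⟨0, by simp⟩

theorem IsP.not_dvd {x : G} (h : IsP p x) (hp : p.Prime) {s : ℕ} (hs : s.Prime) (hsp : s ≠ p) :
    ¬ s ∣ orderOf x := by
  obtain ⟨i, hi⟩ := h
  exact fun hd => hsp ((Nat.prime_dvd_prime_iff_eq hs hp).1 (hs.dvd_of_dvd_pow (hi ▸ hd)))

theorem isP_of_forall {x : G} (h : ∀ s : ℕ, s.Prime → s ∣ orderOf x → s = p) : IsP p x :=
  ⟨_, Nat.eq_prime_pow_of_unique_prime_dvd (orderOf_pos x).ne' (fun hs hd => h _ hs hd)⟩

section

variable (h : Mix p q G) (hp : p.Prime) (hq : q.Prime) (hpq : p ≠ q)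
include h hp hq hpq

theorem Mix.false_of_subgroup {H : Subgroup G} (hpH : ¬ p ∣ Nat.card H) (hqH : q ∣ Nat.card H)
    {r : ℕ} (hr : r.Prime) (hrq : r ≠ q) (hrH : r ∣ Nat.card H) : False := by
  refine hpH (h.mix H ?_ ?_ hqH)
  · rintro rfl
    rw [Subgroup.card_top] at hpH
    exact hpH h.pG
  · intro hH
    exact hrq (eq_of_prime_dvd_card hq hr hH hrH)

/-- An element of order divisible by `r ∉ {p, q}` normalises no non-trivial `q`-subgroup. -/
theorem Mix.not_normalize {r : ℕ} (hr : r.Prime) (hrp : r ≠ p) (hrq : r ≠ q) {W : Subgroup G}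
    (hW : IsPGroup q W) (hW1 : W ≠ ⊥) {x : G} (hx : r ∣ orderOf x)
    (hxW : x ∈ Subgroup.normalizer (W : Set G)) : False := by
  haveI := Fact.mk hq
  haveI := Fact.mk hr
  set x' := x ^ (orderOf x / r) with hx'
  have ho : orderOf x' = r := by
    rw [hx', orderOf_pow_orderOf_div (orderOf_pos x).ne' hx]
  have hle : Subgroup.zpowers x' ≤ Subgroup.normalizer (W : Set G) :=
    Subgroup.zpowers_le.2 (pow_mem hxW _)
  refine h.false_of_subgroup hp hq hpq (H := Subgroup.zpowers x' ⊔ W) ?_ ?_ hr hrq ?_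
  · intro hd
    rcases prime_dvd_sup hle hp hd with h1 | h1
    · rw [Nat.card_zpowers, ho] at h1
      exact hrp ((Nat.prime_dvd_prime_iff_eq hp hr).1 h1).symm
    · exact hpq (eq_of_prime_dvd_card hq hp hW h1)
  · exact (dvd_card_of_ne_bot hW hW1).trans (Subgroup.card_dvd_of_le le_sup_right)
  · refine Dvd.dvd.trans ?_ (Subgroup.card_dvd_of_le (le_sup_left : Subgroup.zpowers x' ≤ _))
    rw [Nat.card_zpowers, ho]

/-- An element of order `q` normalises no non-trivial `r`-subgroup, `r ∉ {p, q}`. -/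
theorem Mix.not_normalize' {r : ℕ} (hr : r.Prime) (hrp : r ≠ p) (hrq : r ≠ q) {R : Subgroup G}
    (hR : IsPGroup r R) (hR1 : R ≠ ⊥) {t : G} (ht : orderOf t = q)
    (htR : t ∈ Subgroup.normalizer (R : Set G)) : False := by
  haveI := Fact.mk hr
  have hle : Subgroup.zpowers t ≤ Subgroup.normalizer (R : Set G) := Subgroup.zpowers_le.2 htR
  refine h.false_of_subgroup hp hq hpq (H := Subgroup.zpowers t ⊔ R) ?_ ?_ hr hrq ?_
  · intro hd
    rcases prime_dvd_sup hle hp hd with h1 | h1
    · rw [Nat.card_zpowers, ht] at h1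
      exact hpq ((Nat.prime_dvd_prime_iff_eq hp hq).1 h1)
    · exact hrp (eq_of_prime_dvd_card hr hp hR h1).symm
  · refine Dvd.dvd.trans ?_ (Subgroup.card_dvd_of_le (le_sup_left : Subgroup.zpowers t ≤ _))
    rw [Nat.card_zpowers, ht]
  · exact (dvd_card_of_ne_bot hR hR1).trans (Subgroup.card_dvd_of_le le_sup_right)

/-- An element of order prime to `q` normalising a non-trivial `q`-subgroup is a `p`-element. -/
theorem Mix.isP_of_normalize {W : Subgroup G} (hW : IsPGroup q W) (hW1 : W ≠ ⊥) {x : G}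
    (hxW : x ∈ Subgroup.normalizer (W : Set G)) (hx : (orderOf x).Coprime q) : IsP p x := by
  refine isP_of_forall fun s hs hd => ?_
  by_contra hsp
  refine h.not_normalize hp hq hpq hs hsp ?_ hW hW1 hd hxW
  rintro rfl
  exact (hq.coprime_iff_not_dvd.1 hx.symm) hd

/-- When `p`-elements centralise the `q`-subgroups of `L` they normalise, `L` is an extension of a
`p`-group by a `q`-group, provided `q ∣ |L|`. -/
theorem Mix.exists_complement (L : Subgroup G) (hqL : q ∣ Nat.card L)
    (hnil : ∀ W : Subgroup G, W ≤ L → IsPGroup q W → ∀ x ∈ L, IsP p x →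
      x ∈ Subgroup.normalizer (W : Set G) → x ∈ Subgroup.centralizer (W : Set G)) :
    ∃ M : Subgroup G, M ≤ L ∧ IsPGroup p M ∧ (∀ x ∈ L, IsP p x → x ∈ M) ∧
      (∀ g ∈ L, ∀ m ∈ M, g * m * g⁻¹ ∈ M) ∧
      ∀ B : Subgroup G, B ≤ L → Nat.card B = q ^ (Nat.card L).factorization q →
        ∀ g ∈ L, ∃ m ∈ M, ∃ b ∈ B, g = m * b := by
  classical
  haveI := Fact.mk hq
  haveI := Fact.mk hp
  have hN : Cfsg.HasNormalPComplement q L := by
    refine Transfer.Frobenius.hasNormalPComplement_of_forall_centralizes fun W hW hW1 g hg hgq => ?_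
    set W' := W.map L.subtype with hW'
    have hW'p : IsPGroup q W' := hW.map _
    have hW'1 : W' ≠ ⊥ := fun e => hW1 ((Subgroup.map_eq_bot_iff_of_injective _ L.subtype_injective).1 e)
    have hgW : (g : G) ∈ Subgroup.normalizer (W' : Set G) := by
      have := Subgroup.le_normalizer_map L.subtype (H := W) (Subgroup.mem_map_of_mem L.subtype hg)
      exact this
    have hgP : IsP p (g : G) :=
      h.isP_of_normalize hp hq hpq hW'p hW'1 hgW (by rwa [Subgroup.orderOf_coe])
    have hc := hnil W' (Subgroup.map_subtype_le W) hW'p g g.2 hgP hgW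
    rw [Subgroup.mem_centralizer_iff] at hc ⊢
    intro w hw
    exact Subtype.ext (hc w ⟨w, hw, rfl⟩)
  obtain ⟨S, N, hNn, hcompl⟩ := hN
  have hmul : Nat.card N * q ^ (Nat.card L).factorization q = Nat.card L := by
    rw [← S.card_eq_multiplicity]; exact hcompl.card_mul_card
  have hNq : ¬ q ∣ Nat.card N := by
    intro hd
    have h1 : q ^ ((Nat.card L).factorization q + 1) ∣ Nat.card L := by
      have h2 := mul_dvd_mul_left (q ^ (Nat.card L).factorization q) hd
      rwa [← pow_succ, mul_comm _ (Nat.card N), hmul] at h2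
    exact Nat.pow_succ_factorization_not_dvd Nat.card_pos.ne' hq h1
  have hNp : ∀ s : ℕ, s.Prime → s ∣ Nat.card N → s = p := by
    intro s hs hsN
    by_contra hsp
    have hsq : s ≠ q := fun e => hNq (e ▸ hsN)
    haveI := Fact.mk hs
    obtain ⟨R⟩ : Nonempty (Sylow s N) := inferInstance
    have hfr := Sylow.normalizer_sup_eq_top R
    set R' := (R : Subgroup N).map N.subtype with hR'
    have hq' : q ∣ Nat.card ↥(Subgroup.normalizer (R' : Set L)) := by
      have hle : Subgroup.normalizer (R' : Set L) ≤ Subgroup.normalizer (N : Set L) := by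
        rw [show Subgroup.normalizer (N : Set L) = ⊤ from Subgroup.normalizer_eq_top N]
        exact le_top
      have h1 : q ∣ Nat.card ↥(Subgroup.normalizer (R' : Set L) ⊔ N) := by
        rw [hfr, Subgroup.card_top]; exact hqL
      exact (prime_dvd_sup hle hq h1).resolve_right hNq
    obtain ⟨u, hu⟩ := exists_prime_orderOf_dvd_card' q hq'
    have hR'' : IsPGroup s (R'.map L.subtype) := ((R.2).map _).map _
    have hR1 : R'.map L.subtype ≠ ⊥ := by
      intro e
      have e1 : Nat.card (R : Subgroup N) = 1 := by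
        rw [← Subgroup.card_map_of_injective (K := (R : Subgroup N)) N.subtype_injective, ← hR',
          ← Subgroup.card_map_of_injective (K := R') L.subtype_injective, e, Subgroup.card_bot]
      have h2 := R.dvd_card_of_dvd_card hsN
      rw [e1] at h2
      exact hs.one_lt.ne' (Nat.dvd_one.1 h2)
    refine h.not_normalize' hp hq hpq hs hsp hsq hR'' hR1 (t := ((u : L) : G)) ?_
      (Subgroup.le_normalizer_map L.subtype (H := R') (Subgroup.mem_map_of_mem L.subtype u.2))
    rw [Subgroup.orderOf_coe, Subgroup.orderOf_coe, hu]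
  have hNpg : IsPGroup p (N.map L.subtype) :=
    (IsPGroup.of_card (Nat.eq_prime_pow_of_unique_prime_dvd Nat.card_pos.ne'
      (fun hs hd => hNp _ hs hd))).map _
  refine ⟨N.map L.subtype, Subgroup.map_subtype_le N, hNpg, fun x hx hxP => ?_, ?_, ?_⟩
  · refine ⟨⟨x, hx⟩, ?_, rfl⟩
    rw [SetLike.mem_coe, ← QuotientGroup.eq_one_iff, ← orderOf_eq_one_iff]
    have h1 : orderOf (QuotientGroup.mk ⟨x, hx⟩ : L ⧸ N) ∣ orderOf x := by
      have h0 := orderOf_map_dvd (QuotientGroup.mk' N) ⟨x, hx⟩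
      rwa [Subgroup.orderOf_mk] at h0
    have hindex : N.index = q ^ (Nat.card L).factorization q := by
      refine Nat.eq_of_mul_eq_mul_left (Nat.card_pos (α := N)) ?_
      rw [hmul, N.card_mul_index]
    have h2 : orderOf (QuotientGroup.mk ⟨x, hx⟩ : L ⧸ N) ∣ q ^ (Nat.card L).factorization q := by
      rw [← hindex, Subgroup.index_eq_card]
      exact orderOf_dvd_natCard _
    obtain ⟨i, hi⟩ := hxP
    rw [hi] at h1
    exact Nat.eq_one_of_dvd_coprimes (((Nat.coprime_primes hp hq).2 hpq).pow i _) h1 h2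
  · rintro g hg _ ⟨n, hn, rfl⟩
    exact ⟨⟨g, hg⟩ * n * ⟨g, hg⟩⁻¹, hNn.conj_mem n hn _, rfl⟩
  · intro B hB hBc g hg
    have hB' : Nat.card (B.subgroupOf L) = q ^ (Nat.card L).factorization q := by
      rw [Nat.card_congr (Subgroup.subgroupOfEquivOfLe hB).toEquiv, hBc]
    have hc : N.IsComplement' (B.subgroupOf L) := by
      refine Subgroup.isComplement'_of_coprime (by rw [hB', hmul]) ?_
      rw [hB']
      exact (hq.coprime_iff_not_dvd.2 hNq).symm.pow_right _
    obtain ⟨⟨m, b⟩, hmb⟩ := hc.2 ⟨g, hg⟩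
    exact ⟨_, ⟨m.1, m.2, rfl⟩, ((b : L) : G), b.2, (congrArg Subtype.val hmb).symm⟩

/-- There is a `p`-element moving some `q`-subgroup unless `G` is a `{p, q}`-group. -/
theorem Mix.pq_of_centralizes (hqG : q ∣ Nat.card G)
    (hnil : ∀ W : Subgroup G, IsPGroup q W → ∀ x : G, IsP p x →
      x ∈ Subgroup.normalizer (W : Set G) → x ∈ Subgroup.centralizer (W : Set G))
    (r : ℕ) (hr : r.Prime) (hrG : r ∣ Nat.card G) : r = p ∨ r = q := by
  haveI := Fact.mk hq
  obtain ⟨M, -, hM, -, hnorm, hdec⟩ := h.exists_complement hp hq hpq ⊤ (by rwa [Subgroup.card_top])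
    (fun W _ hW x _ hx hxW => hnil W hW x hx hxW)
  obtain ⟨S⟩ : Nonempty (Sylow q G) := inferInstance
  have hsup : M ⊔ (S : Subgroup G) = ⊤ := by
    rw [eq_top_iff]
    intro g _
    obtain ⟨m, hm, b, hb, rfl⟩ := hdec S le_top
      (by rw [S.card_eq_multiplicity, Subgroup.card_top]) g trivial
    exact Subgroup.mul_mem_sup hm hb
  by_cases hrq : r = q
  · exact Or.inr hrq
  have hMn : M.Normal := ⟨fun m hm g => hnorm g trivial m hm⟩
  rcases prime_dvd_sup (H := (S : Subgroup G)) (K := M)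
      (by rw [Subgroup.normalizer_eq_top]; exact le_top) hr
      (by rw [sup_comm, hsup, Subgroup.card_top]; exact hrG) with h1 | h1
  · exact Or.inr (eq_of_prime_dvd_card hq hr S.2 h1)
  · exact Or.inl (eq_of_prime_dvd_card hp hr hM h1)

end

/-- A `p`-element moving an element of a subgroup has an orbit of length at least `p` there. -/
theorem orbit_bound (hp : p.Prime) {W : Subgroup G} {y : G} (hy : IsP p y)
    (hyW : y ∈ Subgroup.normalizer (W : Set G)) {w : G} (hw : w ∈ W) (hne : y * w * y⁻¹ ≠ w) :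
    p + 1 ≤ Nat.card W ∧ (Nat.card W = p + 1 →
      ∀ v ∈ W, v ≠ 1 → ∃ i : ℕ, y ^ i * w * (y ^ i)⁻¹ = v) := by
  classical
  have hw1 : w ≠ 1 := by rintro rfl; simp at hne
  have hmem : ∀ i : ℕ, y ^ i * w * (y ^ i)⁻¹ ∈ W := fun i =>
    (Subgroup.mem_normalizer_iff.1 (pow_mem hyW i) w).1 hw
  let f : Option (Fin p) → W := fun o => o.elim 1 fun i => ⟨_, hmem i.1⟩
  have key : ∀ d : ℕ, 0 < d → d < p → y ^ d * w * (y ^ d)⁻¹ ≠ w := by
    intro d hd0 hdp e
    obtain ⟨k, hk⟩ := hy
    have hcop : d.Coprime (orderOf y) := by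
      rw [hk]
      exact (Nat.Coprime.pow_right k
        ((hp.coprime_iff_not_dvd.2 (Nat.not_dvd_of_pos_of_lt hd0 hdp)).symm))
    obtain ⟨m, hm⟩ := exists_pow_eq_self_of_coprime hcop
    have hc : Commute (y ^ d) w := mul_inv_eq_iff_eq_mul.1 e
    have hc2 : Commute y w := hm ▸ hc.pow_left m
    exact hne (mul_inv_eq_iff_eq_mul.2 hc2)
  have hinj : Function.Injective f := by
    rintro (_ | i) (_ | j) hij
    · rfl
    · refine absurd (congrArg Subtype.val hij).symm ?_
      simpa [f, conj_eq_one_iff] using hw1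
    · refine absurd (congrArg Subtype.val hij) ?_
      simpa [f, conj_eq_one_iff] using hw1
    · have e : y ^ i.1 * w * (y ^ i.1)⁻¹ = y ^ j.1 * w * (y ^ j.1)⁻¹ := congrArg Subtype.val hij
      rcases Nat.lt_trichotomy i.1 j.1 with hlt | heq | hlt
      · refine absurd ?_ (key (j.1 - i.1) (by omega) (by omega))
        rw [← mul_left_cancel_iff (a := y ^ i.1), ← mul_right_cancel_iff (a := (y ^ i.1)⁻¹)]
        simp only [mul_assoc] at e ⊢
        rw [← mul_assoc (y ^ i.1), ← pow_add, Nat.add_sub_cancel' hlt.le, e, ← mul_inv_rev,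
          ← pow_add, Nat.add_sub_cancel' hlt.le]
      · rw [Fin.ext heq]
      · refine absurd ?_ (key (i.1 - j.1) (by omega) (by omega))
        rw [← mul_left_cancel_iff (a := y ^ j.1), ← mul_right_cancel_iff (a := (y ^ j.1)⁻¹)]
        simp only [mul_assoc] at e ⊢
        rw [← mul_assoc (y ^ j.1), ← pow_add, Nat.add_sub_cancel' hlt.le, ← e, ← mul_inv_rev,
          ← pow_add, Nat.add_sub_cancel' hlt.le]
  have hcard : Nat.card (Option (Fin p)) = p + 1 := by simp
  refine ⟨hcard ▸ Nat.card_le_card_of_injective f hinj, fun hW v hv hv1 => ?_⟩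
  have hbij : Function.Bijective f := (Nat.bijective_iff_injective_and_card f).2 ⟨hinj, by rw [hcard, hW]⟩
  obtain ⟨o, ho⟩ := hbij.2 ⟨v, hv⟩
  rcases o with _ | i
  · exact absurd (congrArg Subtype.val ho).symm (by simpa [f] using hv1)
  · exact ⟨i.1, congrArg Subtype.val ho⟩

end Cfsg.Agent.Lib.MixedPQ
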