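import Cfsg.Agent.Lib.MixedPQ.Hyper
import Cfsg.Agent.Lib.BSW.Main

/-!
# The extremal case with four-group Sylow `2`-subgroups

The Brauer–Suzuki–Wall theorem finishes the case `p = 3`, `a = 2`.  Owner: helper31.
-/

set_option autoImplicit false
set_option linter.unusedSectionVars false
set_option linter.style.haveILetI false

namespace Cfsg.Agent.Lib.MixedPQ

open Cfsg.Agent.Lib.Involutions.Basic

variable {G : Type*} [Group G] [Finite G] {p : ℕ}

namespace Crit

variable (h : Crit p 2 G)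
include h

/-- With `a = 2` no `p`-element `≠ 1` commutes with an involution. -/
theorem trivial_of_two : ∀ t : G, orderOf t = 2 → ∀ k : G, IsP p k → Commute k t → k = 1 := by
  intro t ht k hk hkt
  by_contra hk1
  classical
  haveI := Fact.mk h.pprime
  haveI := Fact.mk Nat.prime_two
  cases nonempty_fintype G
  have hp := h.pprime
  have hp3 : p = 3 := by have := h.hpa; omega
  obtain ⟨W, hW, hle⟩ := h.exists_full_ge
    (IsPGroup.of_card (n := 1) (by rw [Nat.card_zpowers, ht, pow_one] : Nat.card (Subgroup.zpowers t) = _))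
  have htW : t ∈ W := hle (Subgroup.mem_zpowers t)
  have ht1 := invol_ne_one ht
  have hti := invol_inv ht
  have htt := invol_mul_self ht
  obtain ⟨y, hy, hyW, htr⟩ := h.exists_action hW
  obtain ⟨P, hP, -, -⟩ := h.exists_sylow_at hk hk1 ht hkt
  have hkP : k ∈ (P : Subgroup G) := (hP k).2 ⟨hk, Commute.refl k⟩
  -- all non-trivial elements of `P` determine `P`
  have hsame : ∀ x ∈ (P : Subgroup G), x ≠ 1 → ∀ P' : Sylow p G,
      (∀ z : G, z ∈ (P' : Subgroup G) ↔ IsP p z ∧ Commute z x) → P' = P := by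
    intro x hx hx1 P' hP'
    exact Sylow.ext (P.3 P'.2 fun z hz => (hP' z).2 ⟨IsP.of_mem P.2 hz, h.ab P P.2 z hz x hx⟩)
  have hWP : ∀ w ∈ W, ∀ x ∈ (P : Subgroup G), w * x * w⁻¹ ∈ (P : Subgroup G) := by
    intro w hw x hx
    have hwt : Commute w t := h.full_comm hW hw htW
    have hk'P : IsP p (w⁻¹ * k * w) := by simpa using hk.conj w⁻¹
    have hcom : Commute (w⁻¹ * k * w) t := ((hwt.inv_left).mul_left hkt).mul_left hwt
    obtain ⟨P', hP', -, -⟩ := h.exists_sylow_at hk'P (fun e => hk1 (by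
      have := congrArg (fun z => w * z * w⁻¹) e; simpa [mul_assoc] using this)) ht hcom
    have := h.sylow_at_eq hk hk'P ht hkt hcom hP hP'
    subst this
    obtain ⟨h1, h2⟩ := (hP' x).1 hx
    refine (hP _).2 ⟨h1.conj w, ?_⟩
    simpa [mul_assoc] using h2.map (MulAut.conj w).toMonoidHom
  -- other involutions of `W` invert `P`
  have hfix : ∀ s ∈ W, s ≠ 1 → s ≠ t → ∀ x ∈ (P : Subgroup G), Commute x s → x = 1 := by
    intro s hs hs1 hst x hx hxs
    by_contra hx1
    obtain ⟨i, hi⟩ := htr t htW ht1 s hs hs1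
    set z := y ^ i with hz
    have hzP : IsP p z := IsP.of_mem hy.isPGroup_zpowers (zpow_mem (Subgroup.mem_zpowers y) i)
    have hzW : z ∈ Subgroup.normalizer (W : Set G) := zpow_mem hyW i
    have hso := h.full_invol hW hs hs1
    have hk's : Commute (z * k * z⁻¹) s := by
      rw [← hi]; simpa using hkt.map (MulAut.conj z).toMonoidHom
    obtain ⟨Px, hPx, -, -⟩ := h.exists_sylow_at (IsP.of_mem P.2 hx) hx1 hso hxs
    obtain ⟨Pk, hPk, -, -⟩ := h.exists_sylow_at (hk.conj z) (fun e => hk1 (conj_eq_one_iff.1 e)) hso hk's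
    have e1 := hsame x hx hx1 Px hPx
    have e2 := h.sylow_at_eq (IsP.of_mem P.2 hx) (hk.conj z) hso hxs hk's hPx hPk
    have hzn : z ∈ Subgroup.normalizer ((P : Subgroup G) : Set G) := by
      refine mem_normalizer_of fun m hm => ?_
      rw [← e1, e2]
      refine (hPk _).2 ⟨((hP m).1 hm).1.conj z, ?_⟩
      simpa using ((hP m).1 hm).2.map (MulAut.conj z).toMonoidHom
    exact hst (hi.symm.trans (h.centralizes_of_normalised hW hzP hzW hzn hWP htW))
  have hinvP : ∀ s ∈ W, s ≠ 1 → s ≠ t → ∀ x ∈ (P : Subgroup G), s * x * s⁻¹ = x⁻¹ :=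
    fun s hs hs1 hst x hx => inverts_of_fpf (h.full_sq hW hs) (hWP s hs) (hfix s hs hs1 hst) hx
  obtain ⟨s, hs, hs1, hst⟩ : ∃ s ∈ W, s ≠ 1 ∧ s ≠ t := by
    by_contra hh
    push Not at hh
    have hle2 : Nat.card W ≤ 2 := by
      rw [← (Nat.card_zpowers t).trans ht]
      refine Subgroup.card_le_of_le fun w hw => ?_
      rcases eq_or_ne w 1 with rfl | h1
      · exact one_mem _
      · exact hh w hw h1 ▸ Subgroup.mem_zpowers t
    rw [hW] at hle2
    omega
  have hts : t * s ≠ 1 ∧ t * s ≠ t := by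
    refine ⟨fun e => hst ?_, fun e => hs1 (mul_eq_left.1 e)⟩
    rw [eq_inv_of_mul_eq_one_right e, hti]
  have hPt : ∀ x ∈ (P : Subgroup G), Commute x t := by
    intro x hx
    have e1 := hinvP s hs hs1 hst x hx
    have e2 := hinvP (t * s) (mul_mem htW hs) hts.1 hts.2 x hx
    have e3 : t * x⁻¹ * t⁻¹ = x⁻¹ := by
      calc t * x⁻¹ * t⁻¹ = t * (s * x * s⁻¹) * t⁻¹ := by rw [e1]
        _ = (t * s) * x * (t * s)⁻¹ := by group
        _ = x⁻¹ := e2
    have : Commute t x⁻¹ := mul_inv_eq_iff_eq_mul.1 e3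
    simpa using this.inv_right.symm
  -- centralisers of the elements of `P`
  have hcx : ∀ x ∈ (P : Subgroup G), x ≠ 1 → ∀ g : G,
      Commute g x ↔ ∃ m ∈ (P : Subgroup G), g = m ∨ g = m * t := by
    intro x hx hx1 g
    constructor
    · intro hg
      obtain ⟨Px, hPx, -, hdec⟩ := h.exists_sylow_at (IsP.of_mem P.2 hx) hx1 ht (hPt x hx)
      have e1 := hsame x hx hx1 Px hPx
      set L := Subgroup.centralizer ({x} : Set G) with hL
      have htL : t ∈ L := Subgroup.mem_centralizer_singleton_iff.2 (hPt x hx).symm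
      have hf : (Nat.card L).factorization 2 = 1 := by
        refine le_antisymm ?_ ?_
        · by_contra hh
          have hd : 2 ^ 2 ∣ Nat.card L :=
            (Nat.prime_two.pow_dvd_iff_le_factorization Nat.card_pos.ne').2 (by omega)
          obtain ⟨S⟩ : Nonempty (Sylow 2 L) := inferInstance
          have hWc : Nat.card ((S : Subgroup L).map L.subtype) = 2 ^ 2 := by
            rw [Subgroup.card_map_of_injective L.subtype_injective, S.card_eq_multiplicity,
              h.factorization_eq hd]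
          refine hx1 (h.cent_full_trivial hWc (IsP.of_mem P.2 hx)
            (Subgroup.mem_centralizer_iff.2 fun w hw => ?_))
          exact Subgroup.mem_centralizer_singleton_iff.1 (Subgroup.map_subtype_le _ hw)
        · exact (Nat.prime_two.dvd_iff_one_le_factorization Nat.card_pos.ne').1
            (ht ▸ Subgroup.orderOf_dvd_natCard L htL)
      obtain ⟨m, hm, b, hb, rfl⟩ := hdec (Subgroup.zpowers t) (Subgroup.zpowers_le.2 htL)
        (by rw [hf, Nat.card_zpowers, ht, pow_one]) g hg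
      refine ⟨m, e1 ▸ hm, ?_⟩
      obtain ⟨i, hi, rfl⟩ : ∃ i : ℕ, i < 2 ∧ t ^ i = b := by
        rw [mem_zpowers_iff_mem_range_orderOf, ht] at hb
        obtain ⟨i, hi, rfl⟩ := Finset.mem_image.1 hb
        exact ⟨i, Finset.mem_range.1 hi, rfl⟩
      interval_cases i <;> simp
    · rintro ⟨m, hm, rfl | rfl⟩
      · exact h.ab P P.2 g hm x hx
      · exact (h.ab P P.2 m hm x hx).mul_left (hPt x hx).symm
  set K := Subgroup.centralizer ({k} : Set G) with hKdef
  have hmemK : ∀ g, g ∈ K ↔ ∃ m ∈ (P : Subgroup G), g = m ∨ g = m * t := fun g =>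
    Subgroup.mem_centralizer_singleton_iff.trans (hcx k hkP hk1 g)
  have hKdec : ∀ g ∈ K, ∃ m ∈ (P : Subgroup G), ∃ b ∈ W, (b = 1 ∨ b = t) ∧ g = m * b := by
    intro g hg
    obtain ⟨m, hm, rfl | rfl⟩ := (hmemK g).1 hg
    · exact ⟨g, hm, 1, one_mem _, Or.inl rfl, (mul_one g).symm⟩
    · exact ⟨m, hm, t, htW, Or.inr rfl, rfl⟩
  have hKof : ∀ m ∈ (P : Subgroup G), ∀ b : G, b = 1 ∨ b = t → m * b ∈ K := by
    rintro m hm b (rfl | rfl)
    · exact (hmemK _).2 ⟨m, hm, Or.inl (mul_one m)⟩
    · exact (hmemK _).2 ⟨m, hm, Or.inr rfl⟩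
  have hodd : ∀ m ∈ (P : Subgroup G), m * m = 1 → m = 1 := fun m hm e =>
    (IsP.of_mem P.2 hm).eq_one_of_dvd hp h.p_ne (n := 1) (orderOf_dvd_of_pow_eq_one (by rwa [pow_one, sq]))
  have hsqK : ∀ g ∈ K, g * g ∈ (P : Subgroup G) ∧ (g * g = 1 → g = 1 ∨ g = t) := by
    intro g hg
    obtain ⟨m, hm, b, hb, hb2, rfl⟩ := hKdec g hg
    have hc : Commute b m := by
      rcases hb2 with rfl | rfl
      · exact Commute.one_left m
      · exact (hPt m hm).symm
    have e : m * b * (m * b) = m * m := by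
      rw [hc.mul_mul_mul_comm, h.full_sq hW hb, mul_one]
    refine ⟨e ▸ mul_mem hm hm, fun e1 => ?_⟩
    rw [e] at e1
    rw [hodd m hm e1, one_mul]
    exact hb2
  have hyp : BSW.Hyp t s K := by
    refine ⟨ht, h.full_invol hW hs hs1, ?_, ?_, h.full_comm hW hs htW, ?_, ?_, ?_, ?_, ?_, ?_⟩
    · exact Subgroup.mem_centralizer_singleton_iff.2 hkt.symm
    · intro hsK
      exact hk1 (hfix s hs hs1 hst k hkP (Subgroup.mem_centralizer_singleton_iff.1 hsK).symm)
    · intro g hg g' hg'
      obtain ⟨m, hm, b, hb, hb2, rfl⟩ := hKdec g hg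
      obtain ⟨m', hm', b', hb', hb2', rfl⟩ := hKdec g' hg'
      have c1 : Commute m b' := by
        rcases hb2' with rfl | rfl
        · exact Commute.one_right m
        · exact hPt m hm
      have c2 : Commute b m' := by
        rcases hb2 with rfl | rfl
        · exact Commute.one_left m'
        · exact (hPt m' hm').symm
      exact (((h.ab P P.2 m hm m' hm').mul_right c1).mul_left
        (c2.mul_right (h.full_comm hW hb hb'))).eq
    · intro g hg
      obtain ⟨m, hm, b, hb, hb2, rfl⟩ := hKdec g hg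
      have hc : Commute b m := by
        rcases hb2 with rfl | rfl
        · exact Commute.one_left m
        · exact (hPt m hm).symm
      have e : s * b * s⁻¹ = b := by rw [(h.full_comm hW hs hb).eq, mul_inv_cancel_right]
      calc s * (m * b) * s⁻¹ = (s * m * s⁻¹) * (s * b * s⁻¹) := by group
        _ = m⁻¹ * b⁻¹ := by
          rw [hinvP s hs hs1 hst m hm, e, inv_eq_of_mul_eq_one_left (h.full_sq hW hb)]
        _ = (m * b)⁻¹ := by rw [← hc.eq, mul_inv_rev]
    · intro g hg
      obtain ⟨M, hM, hmem, -, hdec⟩ := h.exists_centralizer_data ht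
      obtain ⟨m, hm, w, hw, rfl⟩ := hdec W hW htW g hg
      have hmP : m ∈ (P : Subgroup G) :=
        (hP m).2 ⟨((hmem m).1 hm).1, h.comm_of_commute_invol ht ((hmem m).1 hm).1 ((hmem m).1 hm).2 hk hkt⟩
      by_cases hwt : w = 1 ∨ w = t
      · exact Or.inl (hKof m hmP w hwt)
      refine Or.inr ?_
      push Not at hwt
      have hsw : s * w = 1 ∨ s * w = t := by
        by_contra hne
        push Not at hne
        by_cases hsw : s = w
        · exact hne.1 (hsw ▸ h.full_sq hW hs)
        have hsub : ({1, t, s, w, s * w} : Finset G) ⊆ Finset.univ.filter fun z => z ∈ W := by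
          intro z hz
          simp only [Finset.mem_insert, Finset.mem_singleton] at hz
          simp only [Finset.mem_filter, Finset.mem_univ, true_and]
          rcases hz with rfl | rfl | rfl | rfl | rfl
          exacts [one_mem _, htW, hs, hw, mul_mem hs hw]
        have hc := Finset.card_le_card hsub
        have hWc : (Finset.univ.filter fun z => z ∈ W).card = 4 := by
          rw [show 4 = Nat.card W by rw [hW]; rfl, Nat.card_eq_fintype_card]
          exact (Fintype.card_subtype _).symm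
        rw [hWc, Finset.card_insert_of_notMem, Finset.card_insert_of_notMem,
          Finset.card_insert_of_notMem, Finset.card_pair] at hc
        · omega
        · intro e; exact hs1 (mul_eq_right.1 e.symm)
        · simp only [Finset.mem_insert, Finset.mem_singleton, not_or]
          exact ⟨hsw, fun e => hwt.1 (mul_eq_left.1 e.symm)⟩
        · simp only [Finset.mem_insert, Finset.mem_singleton, not_or]
          exact ⟨fun e => hst e.symm, fun e => hwt.2 e.symm, fun e => hne.2 e.symm⟩
        · simp only [Finset.mem_insert, Finset.mem_singleton, not_or]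
          exact ⟨ht1.symm, hs1.symm, fun e => hwt.1 e.symm, fun e => hne.1 e.symm⟩
      have e : s * (m * w) = m⁻¹ * (s * w) := by
        rw [← hinvP s hs hs1 hst m hmP]; group
      rw [e]
      exact hKof _ (inv_mem hmP) _ hsw
    · intro g hg e
      exact (hsqK g hg).2 e
    · intro g hg hg1 c hc
      rcases eq_or_ne (g * g) 1 with e | e
      · have hgt : g = t := ((hsqK g hg).2 e).resolve_left hg1
        subst hgt
        have hgt2 : c * g * c⁻¹ = 1 ∨ c * g * c⁻¹ = g := by
          refine (hsqK _ hc).2 ?_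
          calc c * g * c⁻¹ * (c * g * c⁻¹) = c * (g * g) * c⁻¹ := by group
            _ = 1 := by rw [e, mul_one, mul_inv_cancel]
        rcases hgt2 with e2 | e2
        · exact absurd (conj_eq_one_iff.1 e2) hg1
        · exact mul_inv_eq_iff_eq_mul.1 e2
      · have hx := (hsqK g hg).1
        have hx' := (hsqK _ hc).1
        have e' : c * g * c⁻¹ * (c * g * c⁻¹) = c * (g * g) * c⁻¹ := by group
        rw [e'] at hx'
        have ht' : Commute (c * t * c⁻¹) (c * (g * g) * c⁻¹) := by
          simpa [mul_assoc] using (hPt _ hx).symm.map (MulAut.conj c).toMonoidHom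
        have htK : c * t * c⁻¹ ∈ K :=
          (hmemK _).2 ((hcx _ hx' (fun e1 => e (conj_eq_one_iff.1 e1)) _).1 ht')
        have h2 : c * t * c⁻¹ * (c * t * c⁻¹) = 1 := by
          calc c * t * c⁻¹ * (c * t * c⁻¹) = c * (t * t) * c⁻¹ := by group
            _ = 1 := by rw [htt, mul_one, mul_inv_cancel]
        rcases (hsqK _ htK).2 h2 with e2 | e2
        · exact absurd (conj_eq_one_iff.1 e2) ht1
        · exact mul_inv_eq_iff_eq_mul.1 e2
    · exact fun u v hu hv => h.isConj_invol hu hv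
  obtain ⟨Q, D, -, hCQ, hDc, hQD, -, hNQ, hND⟩ := BSW.brauer_suzuki_wall hyp
  -- a prime element of `Q`
  have hQodd : Odd (Nat.card Q) := ⟨Nat.card D, hQD.symm⟩
  have hQ1 : Nat.card Q ≠ 1 := by have := Nat.card_pos (α := D); omega
  obtain ⟨r, hr, hrQ⟩ := Nat.exists_prime_and_dvd hQ1
  haveI := Fact.mk hr
  have hr2 : r ≠ 2 := fun e => Nat.not_even_iff_odd.2 hQodd (even_iff_two_dvd.2 (e ▸ hrQ))
  obtain ⟨x, hx⟩ := exists_prime_orderOf_dvd_card' (G := Q) r hrQ
  have hxo : orderOf (x : G) = r := by rw [Subgroup.orderOf_coe, hx]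
  have hx1 : (x : G) ≠ 1 := fun e => hr.one_lt.ne' (by rw [← hxo, e, orderOf_one])
  have htoP : ∀ z : G, IsP p z → ∃ g : G, g * z * g⁻¹ ∈ (P : Subgroup G) := by
    intro z hz
    obtain ⟨S, hS⟩ := hz.isPGroup_zpowers.exists_le_sylow
    obtain ⟨g, hg⟩ := MulAction.exists_smul_eq G S P
    refine ⟨g, ?_⟩
    rw [← hg, Sylow.coe_subgroup_smul]
    exact Subgroup.smul_mem_pointwise_smul z (MulAut.conj g) _ (hS (Subgroup.mem_zpowers z))
  have hrp : r ≠ p := by
    intro e
    obtain ⟨g, hg⟩ := htoP (x : G) ⟨1, by rw [hxo, e, pow_one]⟩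
    have hc : Commute (g⁻¹ * t * g) (x : G) := by
      simpa [mul_assoc] using (hPt _ hg).symm.map (MulAut.conj g⁻¹).toMonoidHom
    have hm : g⁻¹ * t * g ∈ Q := (hCQ x x.2 hx1).le (Subgroup.mem_centralizer_singleton_iff.2 hc)
    have h2 : 2 ∣ Nat.card Q := by
      have ho : orderOf (g⁻¹ * t * g) = 2 := by
        rw [← ht]; simpa using Involutions.Basic.orderOf_conj_eq g⁻¹ t
      exact ho ▸ Subgroup.orderOf_dvd_natCard Q hm
    exact Nat.not_even_iff_odd.2 hQodd (even_iff_two_dvd.2 h2)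
  have hQc : ∀ a ∈ Q, ∀ b ∈ Q, Commute a b := by
    intro a ha b hb
    rcases eq_or_ne b 1 with rfl | hb1
    · exact Commute.one_right a
    · exact Subgroup.mem_centralizer_singleton_iff.1 ((hCQ b hb hb1).ge ha)
  -- `D` has odd order
  have hDodd : Odd (Nat.card D) := by
    rw [← Nat.not_even_iff_odd]
    intro he
    obtain ⟨d, hd⟩ := exists_prime_orderOf_dvd_card' (G := D) 2 (even_iff_two_dvd.1 he)
    have hdN : (d : G) ∈ Subgroup.normalizer (Q : Set G) := hNQ ▸ Subgroup.mem_sup_right d.2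
    let R : Subgroup G :=
      { carrier := {z | z ∈ Q ∧ z ^ r = 1}
        one_mem' := ⟨one_mem _, one_pow _⟩
        mul_mem' := fun {a b} ha hb => ⟨mul_mem ha.1 hb.1, by
          rw [(hQc a ha.1 b hb.1).mul_pow, ha.2, hb.2, one_mul]⟩
        inv_mem' := fun {a} ha => ⟨inv_mem ha.1, by rw [inv_pow, ha.2, inv_one]⟩ }
    have hR : IsPGroup r R := fun z => ⟨1, Subtype.ext (by
      rw [SubgroupClass.coe_pow, pow_one]; exact z.2.2)⟩
    have hR1 : R ≠ ⊥ := fun e => hx1 (Subgroup.mem_bot.1 (e ▸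
      (⟨x.2, by rw [← hxo, pow_orderOf_eq_one]⟩ : (x : G) ∈ R)))
    refine h.mix.not_normalize' hp Nat.prime_two h.p_ne hr hrp hr2 hR hR1
      (t := (d : G)) (by rw [Subgroup.orderOf_coe, hd]) (mem_normalizer_of fun z hz => ⟨?_, ?_⟩)
    · exact (Subgroup.mem_normalizer_iff.1 hdN z).1 hz.1
    · rw [conj_pow, hz.2, mul_one, mul_inv_cancel]
  have hD1 : D ≠ ⊥ := by
    intro e
    have : Nat.card Q = 3 := by rw [← hQD, e, Subgroup.card_bot]
    exact hrp (hp3 ▸ (Nat.prime_dvd_prime_iff_eq hr Nat.prime_three).1 (this ▸ hrQ))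
  obtain ⟨hNDeq, u, hu, huD, hinv, hNu⟩ := hND D le_rfl hD1
  have hDP : ∀ z ∈ D, IsP p z := fun z hz =>
    h.isP_of_inverted hu (Odd.of_dvd_nat hDodd (Subgroup.orderOf_dvd_natCard D hz)) (hinv z hz)
  obtain ⟨z, hz, hz1⟩ : ∃ z ∈ D, z ≠ 1 := by
    by_contra hh
    push Not at hh
    exact hD1 ((Subgroup.eq_bot_iff_forall D).2 hh)
  obtain ⟨g, hg⟩ := htoP z (hDP z hz)
  have hgz1 : g * z * g⁻¹ ≠ 1 := fun e => hz1 (conj_eq_one_iff.1 e)
  have hCz : Subgroup.centralizer ({z} : Set G) = K.map (MulAut.conj g⁻¹).toMonoidHom := by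
    ext c
    constructor
    · intro hc
      refine ⟨g * c * g⁻¹, (hmemK _).2 ((hcx _ hg hgz1 _).1 ?_), by simp [mul_assoc]⟩
      have hcz : Commute c z := Subgroup.mem_centralizer_singleton_iff.1 hc
      simpa [mul_assoc] using hcz.map (MulAut.conj g).toMonoidHom
    · rintro ⟨c', hc', rfl⟩
      have e : Commute c' (g * z * g⁻¹) := (hcx _ hg hgz1 _).2 ((hmemK c').1 hc')
      exact Subgroup.mem_centralizer_singleton_iff.2
        (by simpa [mul_assoc] using (e.map (MulAut.conj g⁻¹).toMonoidHom).eq)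
  have hNz := (hND (Subgroup.zpowers z) (Subgroup.zpowers_le.2 hz)
    (fun e => hz1 (Subgroup.zpowers_eq_bot.1 e))).1
  have hNle : Nat.card ↥(Subgroup.normalizer (D : Set G)) ≤ 2 * Nat.card D := by
    rw [hNu, sup_comm]
    refine Nat.le_of_dvd (Nat.mul_pos two_pos Nat.card_pos) (hu ▸ card_sup_zpowers_dvd ?_)
    exact mem_normalizer_of fun w hw => hinv w hw ▸ inv_mem hw
  have hDle : Nat.card D ≤ Nat.card (P : Subgroup G) := by
    have hDp : IsPGroup p D := IsPGroup.iff_orderOf.2 fun d => by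
      obtain ⟨i, hi⟩ := hDP d d.2
      exact ⟨i, by rw [← Subgroup.orderOf_coe, hi]⟩
    obtain ⟨S, hS⟩ := hDp.exists_le_sylow
    calc Nat.card D ≤ Nat.card (S : Subgroup G) := Subgroup.card_le_of_le hS
      _ = Nat.card (P : Subgroup G) := by rw [S.card_eq_multiplicity, P.card_eq_multiplicity]
  have hKge : 2 * Nat.card (P : Subgroup G) ≤ Nat.card K := by
    have hle : (P : Subgroup G) ≤ K := fun m hm => by simpa using hKof m hm 1 (Or.inl rfl)
    obtain ⟨c, hc⟩ := Subgroup.card_dvd_of_le hle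
    have hne : (P : Subgroup G) ≠ K := fun e => by
      have htP : t ∈ (P : Subgroup G) := e ▸ hyp.htK
      exact ht1 (hodd t htP htt)
    rcases Nat.lt_or_ge c 2 with h2 | h2
    · exfalso
      rcases Nat.le_one_iff_eq_zero_or_eq_one.1 (by omega : c ≤ 1) with rfl | rfl
      · exact (Nat.card_pos (α := K)).ne' (by simpa using hc)
      · exact hne (Subgroup.eq_of_le_of_card_ge hle (by rw [hc, mul_one]))
    · rw [hc, mul_comm]; exact Nat.mul_le_mul_left _ h2
  have hlt : Subgroup.centralizer ({z} : Set G) < Subgroup.normalizer (Subgroup.zpowers z : Set G) := by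
    refine lt_of_le_of_ne (fun c hc => mem_normalizer_of fun w hw => ?_) fun e => ?_
    · obtain ⟨i, rfl⟩ := Subgroup.mem_zpowers_iff.1 hw
      have hc' : Commute c z := Subgroup.mem_centralizer_singleton_iff.1 hc
      rw [(hc'.zpow_right i).eq, mul_inv_cancel_right]
      exact hw
    · have huN : u ∈ Subgroup.normalizer (Subgroup.zpowers z : Set G) := by
        rw [hNz, hNu]
        exact Subgroup.mem_sup_right (Subgroup.mem_zpowers u)
      have huz : Commute u z := Subgroup.mem_centralizer_singleton_iff.1 (e ▸ huN)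
      have e1 := hinv z hz
      rw [huz.eq, mul_inv_cancel_right] at e1
      exact hz1 ((hDP z hz).eq_one_of_dvd hp h.p_ne (n := 1) (orderOf_dvd_of_pow_eq_one (by
        rw [pow_one, sq]; nth_rewrite 2 [e1]; exact mul_inv_cancel z)))
  obtain ⟨c, hc⟩ := Subgroup.card_dvd_of_le hlt.le
  have hc2 : 2 ≤ c := by
    by_contra hh
    rcases Nat.le_one_iff_eq_zero_or_eq_one.1 (by omega : c ≤ 1) with rfl | rfl
    · exact (Nat.card_pos (α := ↥(Subgroup.normalizer (Subgroup.zpowers z : Set G)))).ne'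
        (by simpa using hc)
    · exact hlt.ne (Subgroup.eq_of_le_of_card_ge hlt.le (by rw [hc, mul_one]))
  rw [hCz, Subgroup.card_map_of_injective (MulAut.conj g⁻¹).injective, hNz] at hc
  have hge : Nat.card K * 2 ≤ Nat.card K * c := Nat.mul_le_mul_left _ hc2
  have := Nat.card_pos (α := D)
  rw [← hc] at hge
  omega

end Crit

namespace Crit

/-- There is no minimal counterexample. -/
theorem false {a : ℕ} (h : Crit p a G) : False := by
  rcases Nat.lt_or_ge a 3 with h3 | h3
  · obtain rfl : a = 2 := by have := h.two_le; omega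
    exact h.false_of_trivial h.trivial_of_two
  · exact h.false_of_trivial (h.trivial_of_three h3)

end Crit

end Cfsg.Agent.Lib.MixedPQ
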