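import Cfsg.Agent.Lib.MixedPQ.Real

/-!
# The extremal case: `p`-elements commuting with involutions, and the count of involutions

For `a ≥ 3` involution centralisers are `2`-groups; a count of involutions then rules this out.
Owner: helper31.
-/

set_option autoImplicit false
set_option linter.unusedSectionVars false
set_option linter.style.haveILetI false

namespace Cfsg.Agent.Lib.MixedPQ

open Cfsg.Agent.Lib.Involutions.Basic

variable {G : Type*} [Group G] [Finite G] {p a : ℕ}

namespace Crit

variable (h : Crit p a G)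
include h

/-- The Sylow `p`-subgroup attached to a `p`-element commuting with an involution. -/
theorem exists_sylow_at {k t : G} (hk : IsP p k) (hk1 : k ≠ 1) (ht : orderOf t = 2) (hkt : Commute k t) :
    ∃ P : Sylow p G, (∀ x : G, x ∈ (P : Subgroup G) ↔ IsP p x ∧ Commute x k) ∧
      (∀ g : G, Commute g k → ∀ x ∈ (P : Subgroup G), g * x * g⁻¹ ∈ (P : Subgroup G)) ∧
      ∀ B : Subgroup G, B ≤ Subgroup.centralizer ({k} : Set G) →
        Nat.card B = 2 ^ (Nat.card ↥(Subgroup.centralizer ({k} : Set G))).factorization 2 →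
        ∀ g : G, Commute g k → ∃ x ∈ (P : Subgroup G), ∃ b ∈ B, g = x * b := by
  haveI := Fact.mk h.pprime
  haveI := Fact.mk Nat.prime_two
  set L := Subgroup.centralizer ({k} : Set G) with hL
  have hmem : ∀ g, g ∈ L ↔ Commute g k := fun g => Subgroup.mem_centralizer_singleton_iff
  have htL : t ∈ L := (hmem t).2 hkt.symm
  have h2L : 2 ∣ Nat.card L := ht ▸ Subgroup.orderOf_dvd_natCard L htL
  have hnfull : ¬ 2 ^ a ∣ Nat.card L := by
    intro hd
    obtain ⟨S⟩ : Nonempty (Sylow 2 L) := inferInstance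
    have hWc : Nat.card ((S : Subgroup L).map L.subtype) = 2 ^ a := by
      rw [Subgroup.card_map_of_injective L.subtype_injective, S.card_eq_multiplicity,
        h.factorization_eq hd]
    refine hk1 (h.cent_full_trivial hWc hk (Subgroup.mem_centralizer_iff.2 fun w hw => ?_))
    exact ((hmem w).1 (Subgroup.map_subtype_le _ hw)).eq
  obtain ⟨M, hML, hM, hall, hnorm, hdec⟩ := h.mix.exists_complement h.pprime Nat.prime_two h.p_ne L h2L
    (fun V hVL hV x _ hxP hxV => h.small_centralizes (by
      refine lt_of_le_of_ne (h.card_le_of_twoGroup hV) fun e => hnfull ?_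
      exact e ▸ Subgroup.card_dvd_of_le hVL) hxP hxV)
  have hkM : k ∈ M := hall k ((hmem k).2 (Commute.refl k)) hk
  refine ⟨⟨M, hM, fun {Q} hQ hle => le_antisymm (fun q hq => ?_) hle⟩, fun x => ?_,
    fun g hg => hnorm g ((hmem g).2 hg), fun B hB hBc g hg => hdec B hB hBc g ((hmem g).2 hg)⟩
  · exact hall q ((hmem q).2 (h.ab Q hQ q hq k (hle hkM))) (IsP.of_mem hQ hq)
  · exact ⟨fun hx => ⟨IsP.of_mem hM hx, (hmem x).1 (hML hx)⟩, fun hx => hall x ((hmem x).2 hx.2) hx.1⟩

/-- Two non-trivial `p`-elements centralising a common involution determine the same Sylow subgroup. -/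
theorem sylow_at_eq {k k' t : G} (hk : IsP p k) (hk' : IsP p k') (ht : orderOf t = 2)
    (hkt : Commute k t) (hkt' : Commute k' t) {P P' : Sylow p G}
    (hP : ∀ x : G, x ∈ (P : Subgroup G) ↔ IsP p x ∧ Commute x k)
    (hP' : ∀ x : G, x ∈ (P' : Subgroup G) ↔ IsP p x ∧ Commute x k') : P = P' := by
  have hk'P : k' ∈ (P : Subgroup G) := (hP k').2 ⟨hk', h.comm_of_commute_invol ht hk' hkt' hk hkt⟩
  have hle : (P : Subgroup G) ≤ P' := fun x hx =>
    (hP' x).2 ⟨((hP x).1 hx).1, h.ab P P.2 x hx k' hk'P⟩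
  exact Sylow.ext ((P.3 P'.2 hle).symm)

/-- A `p`-element normalising an invariant Sylow `p`-subgroup centralises the `2`-group. -/
theorem centralizes_of_normalised {W : Subgroup G} (hW : Nat.card W = 2 ^ a) {P : Sylow p G}
    {z : G} (hz : IsP p z) (hzW : z ∈ Subgroup.normalizer (W : Set G))
    (hzP : z ∈ Subgroup.normalizer ((P : Subgroup G) : Set G))
    (hWP : ∀ w ∈ W, ∀ x ∈ (P : Subgroup G), w * x * w⁻¹ ∈ (P : Subgroup G)) {w : G} (hw : w ∈ W) :
    z * w * z⁻¹ = w := by
  haveI := Fact.mk h.pprime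
  have hsup : IsPGroup p (Subgroup.zpowers z ⊔ (P : Subgroup G) : Subgroup G) :=
    IsPGroup.to_sup_of_normal_right' hz.isPGroup_zpowers P.2 (Subgroup.zpowers_le.2 hzP)
  have hzmem : z ∈ (P : Subgroup G) :=
    (P.3 hsup le_sup_right).le (Subgroup.mem_sup_left (Subgroup.mem_zpowers z))
  refine mul_inv_eq_one.1 (inter_eq_one h.pprime h.p_ne hW (IsP.of_mem P.2 ?_)
    (mul_mem ((Subgroup.mem_normalizer_iff.1 hzW w).1 hw) (inv_mem hw)))
  rw [mul_assoc z w, mul_assoc z]
  exact mul_mem hzmem (by simpa [mul_assoc] using hWP w hw _ (inv_mem hzmem))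

/-- The step from a hyperplane: it centralises no non-trivial `p`-element when `a ≥ 3`. -/
theorem hyperplane_trivial {W B : Subgroup G} (hW : Nat.card W = 2 ^ a) (hBW : B ≤ W)
    (hB : Nat.card B * 2 = 2 ^ a) (ha : 3 ≤ a) {k : G} (hk : IsP p k)
    (hkB : k ∈ Subgroup.centralizer (B : Set G)) : k = 1 := by
  by_contra hk1
  have hB4 : 4 ≤ Nat.card B := by
    have : 2 ^ 3 ≤ 2 ^ a := Nat.pow_le_pow_right (by norm_num) ha
    omega
  obtain ⟨b, hb, hb1⟩ : ∃ b ∈ B, b ≠ 1 := by
    by_contra hh
    push Not at hh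
    rw [(Subgroup.eq_bot_iff_forall B).2 hh, Subgroup.card_bot] at hB4
    omega
  have hbo := h.full_invol hW (hBW hb) hb1
  have hkb : ∀ c ∈ B, Commute k c := fun c hc => (Subgroup.mem_centralizer_iff.1 hkB c hc).symm
  obtain ⟨P, hP, -, -⟩ := h.exists_sylow_at hk hk1 hbo (hkb b hb)
  obtain ⟨y, hy, hyW, htr⟩ := h.exists_action hW
  have hconj : ∀ (g : G) (x : G), g * x * g⁻¹ ∈ (P : Subgroup G) ↔
      IsP p x ∧ Commute x (g⁻¹ * k * g) := by
    intro g x
    rw [hP]
    refine and_congr ⟨fun hh => by simpa [mul_assoc] using hh.conj g⁻¹, fun hh => hh.conj g⟩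
      ⟨fun hh => ?_, fun hh => ?_⟩
    · simpa [mul_assoc] using hh.map (MulAut.conj g⁻¹).toMonoidHom
    · simpa [mul_assoc] using hh.map (MulAut.conj g).toMonoidHom
  -- translates of `k` with a common involution give the same `P`
  have hinv : ∀ g : G, ∀ c ∈ B, c ≠ 1 → Commute (g⁻¹ * k * g) c →
      ∀ x ∈ (P : Subgroup G), g * x * g⁻¹ ∈ (P : Subgroup G) := by
    intro g c hc hc1 hcom x hx
    have hco := h.full_invol hW (hBW hc) hc1
    have hk'1 : g⁻¹ * k * g ≠ 1 := fun e => hk1 (by
      have := congrArg (fun z => g * z * g⁻¹) e; simpa [mul_assoc] using this)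
    have hk'P : IsP p (g⁻¹ * k * g) := by simpa using hk.conj g⁻¹
    obtain ⟨P', hP', -, -⟩ := h.exists_sylow_at hk'P hk'1 hco hcom
    have := h.sylow_at_eq hk hk'P hco (hkb c hc) hcom hP hP'
    subst this
    exact (hconj g x).2 ((hP' x).1 hx)
  have hWP : ∀ w ∈ W, ∀ x ∈ (P : Subgroup G), w * x * w⁻¹ ∈ (P : Subgroup G) := by
    intro w hw
    refine hinv w b hb hb1 ?_
    have e : Commute w b := h.full_comm hW hw (hBW hb)
    exact ((e.inv_left).mul_left (hkb b hb)).mul_left e
  -- `y⁻¹ B y` meets `B`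
  obtain ⟨c, hc, hc1, hcy⟩ : ∃ c ∈ B, c ≠ 1 ∧ y * c * y⁻¹ ∈ B := by
    by_contra hh
    push Not at hh
    let f : B × B → W := fun q => ⟨y * q.1 * y⁻¹ * q.2,
      mul_mem ((Subgroup.mem_normalizer_iff.1 hyW _).1 (hBW q.1.2)) (hBW q.2.2)⟩
    have hf : Function.Injective f := by
      rintro ⟨u, v⟩ ⟨u', v'⟩ e
      have e0 : y * (u : G) * y⁻¹ * v = y * (u' : G) * y⁻¹ * v' := congrArg Subtype.val e
      have e1 : y * ((u' : G)⁻¹ * u) * y⁻¹ = (v' : G) * (v : G)⁻¹ := by
        rw [show (v' : G) = (y * (u' : G) * y⁻¹)⁻¹ * (y * u * y⁻¹ * v) by rw [e0]; group]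
        group
      have e2 : (u' : G)⁻¹ * u = 1 := by
        by_contra hne
        exact hh _ (mul_mem (inv_mem u'.2) u.2) hne (e1 ▸ mul_mem v'.2 (inv_mem v.2))
      have hu : u = u' := Subtype.ext (inv_mul_eq_one.1 e2).symm
      subst hu
      exact Prod.ext rfl (Subtype.ext (mul_left_cancel e0))
    have hle := Nat.card_le_card_of_injective f hf
    rw [Nat.card_prod, hW, ← hB] at hle
    nlinarith
  have hyP : y ∈ Subgroup.normalizer ((P : Subgroup G) : Set G) := by
    refine mem_normalizer_of (hinv y c hc hc1 ?_)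
    have := (hkb _ hcy).map (MulAut.conj y⁻¹).toMonoidHom
    simpa [mul_assoc] using this
  obtain ⟨w, hw, hw1, hwb⟩ : ∃ w ∈ W, w ≠ 1 ∧ w ≠ b := by
    by_contra hh
    push Not at hh
    have hle : Nat.card W ≤ 2 := by
      rw [← (Nat.card_zpowers b).trans hbo]
      refine Subgroup.card_le_of_le fun w hw => ?_
      rcases eq_or_ne w 1 with rfl | h1
      · exact one_mem _
      · exact hh w hw h1 ▸ Subgroup.mem_zpowers b
    have := Subgroup.card_le_of_le hBW
    omega
  obtain ⟨i, hi⟩ := htr b (hBW hb) hb1 w hw hw1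
  have hyb : Commute y b :=
    mul_inv_eq_iff_eq_mul.1 (h.centralizes_of_normalised hW hy hyW hyP hWP (hBW hb))
  rw [(hyb.zpow_left i).eq, mul_inv_cancel_right] at hi
  exact hwb hi.symm

/-- For `a ≥ 3` no `p`-element `≠ 1` commutes with an involution. -/
theorem trivial_of_three (ha : 3 ≤ a) : ∀ t : G, orderOf t = 2 → ∀ x : G, IsP p x → Commute x t → x = 1 := by
  have main : ∀ n : ℕ, ∀ W B : Subgroup G, Nat.card W = 2 ^ a → B ≤ W → B ≠ ⊥ →
      2 ^ a ≤ Nat.card B * 2 ^ n → ∀ k : G, IsP p k → k ∈ Subgroup.centralizer (B : Set G) → k = 1 := by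
    intro n
    induction n with
    | zero =>
      intro W B hW hBW _ hle k hk hkB
      have := Subgroup.eq_of_le_of_card_ge hBW (by rw [hW]; simpa using hle)
      exact h.cent_full_trivial hW hk (this ▸ hkB)
    | succ n ih =>
      intro W B hW hBW hB1 hle k hk hkB
      by_cases hle' : 2 ^ a ≤ Nat.card B * 2 ^ n
      · exact ih W B hW hBW hB1 hle' k hk hkB
      obtain ⟨j, hja, hj⟩ := (Nat.dvd_prime_pow Nat.prime_two).1
        (hW ▸ Subgroup.card_dvd_of_le hBW)
      by_cases hja1 : j + 1 = a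
      · exact h.hyperplane_trivial hW hBW (by rw [hj, ← pow_succ, hja1]) ha hk hkB
      have hjlt : j + 2 ≤ a := by
        by_contra hh
        have hja' : j = a := by omega
        refine hle' ?_
        rw [hj, hja']
        exact Nat.le_mul_of_pos_right _ (pow_pos (by norm_num) _)
      obtain ⟨e, he, heB⟩ : ∃ e ∈ W, e ∉ B := by
        by_contra hh
        push Not at hh
        have := Subgroup.card_le_of_le (show W ≤ B from hh)
        rw [hW, hj] at this
        have := (Nat.pow_le_pow_iff_right (show 1 < 2 by norm_num)).1 this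
        omega
      obtain ⟨f, hf, hfB⟩ : ∃ f ∈ W, f ∉ Subgroup.zpowers e ⊔ B := by
        by_contra hh
        push Not at hh
        have h1 := Subgroup.card_le_of_le (show W ≤ Subgroup.zpowers e ⊔ B from hh)
        have h2 := Nat.le_of_dvd (Nat.mul_pos (orderOf_pos e) Nat.card_pos)
          (card_sup_zpowers_dvd (K := B) (mem_normalizer_of fun x hx => by
            rw [(h.full_comm hW he (hBW hx)).eq, mul_inv_cancel_right]; exact hx))
        rw [h.full_invol hW he (fun e1 => heB (e1 ▸ one_mem B)), hj, ← pow_succ'] at h2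
        rw [hW] at h1
        have := (Nat.pow_le_pow_iff_right (show 1 < 2 by norm_num)).1 (h1.trans h2)
        omega
      have hef : e * f ∉ B := fun hh => hfB (by
        have := mul_mem (Subgroup.mem_sup_left (Subgroup.mem_zpowers e) :
          e ∈ Subgroup.zpowers e ⊔ B) (Subgroup.mem_sup_right hh)
        rwa [← mul_assoc, h.full_sq hW he, one_mul] at this)
      obtain ⟨b, hb, hb1⟩ : ∃ b ∈ B, b ≠ 1 := by
        by_contra hh
        push Not at hh
        exact hB1 ((Subgroup.eq_bot_iff_forall B).2 hh)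
      obtain ⟨M, hM, hmem, hnorm, -⟩ := h.exists_centralizer_data (h.full_invol hW (hBW hb) hb1)
      haveI := Fact.mk h.pprime
      -- an involution outside `B` inverts `k`
      have hinv : ∀ g ∈ W, g ∉ B → g * k * g⁻¹ = k⁻¹ := by
        intro g hg hgB
        have hkb : ∀ c ∈ B, Commute k c := fun c hc => (Subgroup.mem_centralizer_iff.1 hkB c hc).symm
        have hkM : k ∈ M := (hmem k).2 ⟨hk, hkb b hb⟩
        set k' := g * k * g⁻¹ with hk'
        have hk'M : k' ∈ M := hnorm g (h.full_comm hW hg (hBW hb)) k hkM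
        have hcomm : Commute k k' := h.ab M hM k hkM k' hk'M
        have hg2 := h.full_sq hW hg
        have hgi : g⁻¹ = g := inv_eq_of_mul_eq_one_left hg2
        have hprod : k * k' = 1 := by
          have hlt : B < Subgroup.zpowers g ⊔ B := lt_of_le_of_ne le_sup_right
            fun e => hgB (e ▸ Subgroup.mem_sup_left (Subgroup.mem_zpowers g))
          refine ih W (Subgroup.zpowers g ⊔ B) hW (sup_le (Subgroup.zpowers_le.2 hg) hBW) ?_ ?_ _
            (IsP.of_mem hM (mul_mem hkM hk'M)) ?_
          · exact fun e => hgB ((Subgroup.mem_bot.1 (e ▸ Subgroup.mem_sup_left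
              (Subgroup.mem_zpowers g) : g ∈ (⊥ : Subgroup G))) ▸ one_mem B)
          · refine hle.trans ?_
            rw [pow_succ', ← mul_assoc]
            refine Nat.mul_le_mul_right _ ?_
            obtain ⟨d, hd⟩ := Subgroup.card_dvd_of_le hlt.le
            rcases Nat.lt_or_ge d 2 with h2 | h2
            · exfalso
              rcases Nat.le_one_iff_eq_zero_or_eq_one.1 (by omega : d ≤ 1) with rfl | rfl
              · exact (Nat.card_pos (α := ↥(Subgroup.zpowers g ⊔ B))).ne' (by simpa using hd)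
              · exact hlt.ne (Subgroup.eq_of_le_of_card_ge hlt.le (by rw [hd, mul_one]))
            · rw [hd]; exact Nat.mul_le_mul_left _ h2
          · have hk'b : ∀ c ∈ B, Commute k' c := fun c hc => by
              have e := h.full_comm hW hg (hBW hc)
              exact (e.mul_left (hkb c hc)).mul_left e.inv_left
            have hle2 : Subgroup.zpowers g ⊔ B ≤ Subgroup.centralizer ({k * k'} : Set G) := by
              refine sup_le (Subgroup.zpowers_le.2 (Subgroup.mem_centralizer_singleton_iff.2 ?_)) fun c hc =>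
                Subgroup.mem_centralizer_singleton_iff.2 ((hkb c hc).mul_left (hk'b c hc)).symm
              show g * (k * k') = k * k' * g
              rw [hcomm.eq]
              calc g * (k' * k) = (g * g) * k * g⁻¹ * k := by rw [hk']; group
                _ = k * (g * k) := by rw [hg2, one_mul, hgi, mul_assoc]
                _ = k * k' * g := by rw [hk']; group
              rw [hcomm.eq]
            exact Subgroup.mem_centralizer_iff.2 fun c hc =>
              Subgroup.mem_centralizer_singleton_iff.1 (hle2 hc)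
        exact eq_inv_of_mul_eq_one_right hprod
      have h1 := hinv e he heB
      have h2 := hinv f hf (fun hh => hfB (Subgroup.mem_sup_right hh))
      have h3 := hinv (e * f) (mul_mem he hf) hef
      have h4 : k = k⁻¹ := by
        calc k = (e * k * e⁻¹)⁻¹ := by rw [h1, inv_inv]
          _ = e * k⁻¹ * e⁻¹ := by group
          _ = e * f * k * (e * f)⁻¹ := by rw [← h2]; group
          _ = k⁻¹ := h3
      refine hk.eq_one_of_dvd h.pprime h.p_ne (n := 1) (orderOf_dvd_of_pow_eq_one ?_)
      rw [pow_one, sq]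
      nth_rewrite 2 [h4]
      exact mul_inv_cancel k
  intro t ht x hx hxt
  haveI := Fact.mk Nat.prime_two
  obtain ⟨W, hW, hle⟩ := h.exists_full_ge
    (IsPGroup.of_card (n := 1) (by rw [Nat.card_zpowers, ht, pow_one] : Nat.card (Subgroup.zpowers t) = _))
  refine main a W (Subgroup.zpowers t) hW hle (fun e => invol_ne_one ht (Subgroup.zpowers_eq_bot.1 e))
    (Nat.le_mul_of_pos_left _ Nat.card_pos) x hx (Subgroup.mem_centralizer_iff.2 fun c hc => ?_)
  obtain ⟨i, rfl⟩ := Subgroup.mem_zpowers_iff.1 hc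
  exact ((hxt.zpow_right i).symm).eq

/-- Involution centralisers cannot all be `2`-groups. -/
theorem false_of_trivial (h0 : ∀ t : G, orderOf t = 2 → ∀ x : G, IsP p x → Commute x t → x = 1) :
    False := by
  classical
  haveI := Fact.mk h.pprime
  haveI := Fact.mk Nat.prime_two
  cases nonempty_fintype G
  have hp := h.pprime
  have hS := h.split_of_trivial h0
  obtain ⟨W, hW⟩ := h.exists_full
  obtain ⟨t, htW, ht1⟩ : ∃ t ∈ W, t ≠ 1 := by
    by_contra hh
    push Not at hh
    rw [(Subgroup.eq_bot_iff_forall W).2 hh, Subgroup.card_bot] at hW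
    exact h.one_lt_two_pow.ne hW
  have ht := h.full_invol hW htW ht1
  have hti := invol_inv ht
  -- `C(t) = W`
  have hCt : ∀ g : G, Commute g t ↔ g ∈ W := fun g => ⟨fun hg => by
    obtain ⟨M, -, hmem, -, hdec⟩ := h.exists_centralizer_data ht
    obtain ⟨m, hm, w, hw, rfl⟩ := hdec W hW htW g hg
    rw [h0 t ht m ((hmem m).1 hm).1 ((hmem m).1 hm).2, one_mul]
    exact hw, fun hg => h.full_comm hW hg htW⟩
  let I := Finset.univ.filter fun v : G => orderOf v = 2
  let X := Finset.univ.filter fun x : G => x ≠ 1 ∧ Odd (orderOf x) ∧ t * x * t⁻¹ = x⁻¹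
  have hI : I.card * 2 ^ a = Nat.card G := by
    have hC : Nat.card (Subgroup.centralizer ({t} : Set G)) = 2 ^ a := by
      rw [← hW]
      exact Nat.card_congr (Equiv.subtypeEquivRight fun g =>
        Subgroup.mem_centralizer_singleton_iff.trans (hCt g))
    have horb : MulAction.orbit (ConjAct G) t = {v : G | orderOf v = 2} := by
      ext v
      rw [ConjAct.mem_orbit_conjAct, Set.mem_ofPred_eq]
      refine ⟨fun hv => ?_, fun hv => h.isConj_invol hv ht⟩
      obtain ⟨g, rfl⟩ := isConj_iff.1 hv.symm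
      rw [Involutions.Basic.orderOf_conj_eq, ht]
    have hst : Nat.card (MulAction.stabilizer (ConjAct G) t) =
        Nat.card (Subgroup.centralizer ({t} : Set G)) := by
      rw [ConjAct.stabilizer_eq_centralizer]
      rfl
    have h1 := Nat.card_congr (MulAction.orbitProdStabilizerEquivGroup (ConjAct G) t)
    rw [Nat.card_prod, hst, hC, horb] at h1
    rw [show Nat.card G = Nat.card (ConjAct G) from Nat.card_congr ConjAct.toConjAct.toEquiv, ← h1]
    congr 1
    rw [Nat.card_eq_fintype_card, Fintype.card_subtype]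
    simp [I]
  have hpI : p ∣ I.card := by
    have : p ∣ I.card * 2 ^ a := hI ▸ h.mix.pG
    exact (hp.dvd_mul.1 this).resolve_right fun e =>
      h.p_ne ((Nat.prime_dvd_prime_iff_eq hp Nat.prime_two).1 (hp.dvd_of_dvd_pow e))
  have hsplit := Finset.card_filter_add_card_filter_not (s := I) fun v => Commute v t
  have hA : (I.filter fun v => Commute v t).card = p := by
    have e : (I.filter fun v => Commute v t) = (Finset.univ.filter fun v => v ∈ W).erase 1 := by
      ext v
      simp only [I, Finset.mem_filter, Finset.mem_univ, true_and, Finset.mem_erase, hCt]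
      exact ⟨fun ⟨hv, hvW⟩ => ⟨invol_ne_one hv, hvW⟩, fun ⟨hv1, hvW⟩ => ⟨h.full_invol hW hvW hv1, hvW⟩⟩
    rw [e, Finset.card_erase_of_mem (by simp)]
    have : (Finset.univ.filter fun v => v ∈ W).card = 2 ^ a := by
      rw [← hW, Nat.card_eq_fintype_card]
      exact (Fintype.card_subtype _).symm
    rw [this, ← h.hpa, Nat.add_sub_cancel]
  have hpX : p ∣ X.card := by
    have hB : (I.filter fun v => ¬ Commute v t).card = X.card := by
      refine Finset.card_bij' (fun v _ => t * v) (fun x _ => t * x) ?_ ?_ ?_ ?_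
      · intro v hv
        simp only [I, Finset.mem_filter, Finset.mem_univ, true_and] at hv
        simp only [X, Finset.mem_filter, Finset.mem_univ, true_and]
        refine ⟨fun e => hv.2 ?_, ?_, ?_⟩
        · rw [eq_inv_of_mul_eq_one_right e, hti]
        · rw [← Nat.not_even_iff_odd]
          exact fun he => hv.2 (h.even_commute hS ht hv.1 he).symm
        · rw [hti]; exact invert_mul (invol_mul_self ht) (invol_mul_self hv.1)
      · intro x hx
        simp only [X, Finset.mem_filter, Finset.mem_univ, true_and] at hx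
        simp only [I, Finset.mem_filter, Finset.mem_univ, true_and]
        obtain ⟨hx1, hxo, hxi⟩ := hx
        rw [hti] at hxi
        have hne : x ≠ x⁻¹ := fun e => Nat.not_even_iff_odd.2 hxo (even_iff_two_dvd.2 (by
          have h2 : orderOf x = 2 := invol_iff.2 ⟨by nth_rewrite 2 [e]; exact mul_inv_cancel x, hx1⟩
          rw [h2]))
        refine ⟨invol_iff.2 ⟨?_, fun e => ?_⟩, fun e => hne ?_⟩
        · rw [← mul_assoc, hxi, inv_mul_cancel]
        · have : x = t := by rw [← hti]; exact eq_inv_of_mul_eq_one_right e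
          rw [this, ht] at hxo
          exact absurd hxo (by decide)
        · have e' : t * x * t = t * (t * x) := e.eq
          rw [hxi, ← mul_assoc, invol_mul_self ht, one_mul] at e'
          exact e'.symm
      · intro v _
        rw [← mul_assoc, invol_mul_self ht, one_mul]
      · intro x _
        rw [← mul_assoc, invol_mul_self ht, one_mul]
    rw [hA, hB] at hsplit
    exact (Nat.dvd_add_right dvd_rfl).1 (hsplit ▸ hpI)
  -- the Sylow subgroups inverted by `t`
  let Sy := X.image fun x => Subgroup.centralizer ({x} : Set G)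
  obtain ⟨x₀, hx₀1, hx₀o, hx₀i⟩ := h.exists_real hS ht
  obtain ⟨P₀, hP₀⟩ := h.real_sylow hS ht hx₀1 hx₀o hx₀i
  have hXP : ∀ x ∈ X, ∀ c, c ∈ Subgroup.centralizer ({x} : Set G) → c ≠ 1 →
      c ∈ X ∧ Subgroup.centralizer ({c} : Set G) = Subgroup.centralizer ({x} : Set G) := by
    intro x hx c hc hc1
    simp only [X, Finset.mem_filter, Finset.mem_univ, true_and] at hx ⊢
    obtain ⟨hcP, hci⟩ := (h.real_data hS ht hx.1 hx.2.1 hx.2.2).2 c
      (Subgroup.mem_centralizer_singleton_iff.1 hc)
    have hco := hcP.odd hp h.p_ne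
    obtain ⟨Pc, hPc⟩ := h.real_sylow hS ht hc1 hco hci
    obtain ⟨Px, hPx⟩ := h.real_sylow hS ht hx.1 hx.2.1 hx.2.2
    refine ⟨⟨hc1, hco, hci⟩, ?_⟩
    have hle : (Px : Subgroup G) ≤ Pc := by
      intro d hd
      rw [hPc, Subgroup.mem_centralizer_singleton_iff]
      exact h.ab Px Px.2 d hd c (hPx ▸ hc)
    rw [← hPc, ← hPx]
    exact Px.3 Pc.2 hle
  have hfib : ∀ P ∈ Sy, (X.filter fun x => Subgroup.centralizer ({x} : Set G) = P).card =
      p ^ (Nat.card G).factorization p - 1 := by
    intro P hP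
    obtain ⟨x, hx, rfl⟩ := Finset.mem_image.1 hP
    have hx' := hx
    simp only [X, Finset.mem_filter, Finset.mem_univ, true_and] at hx'
    obtain ⟨Px, hPx⟩ := h.real_sylow hS ht hx'.1 hx'.2.1 hx'.2.2
    have e : (X.filter fun z => Subgroup.centralizer ({z} : Set G) = Subgroup.centralizer ({x} : Set G)) =
        (Finset.univ.filter fun z => z ∈ Subgroup.centralizer ({x} : Set G)).erase 1 := by
      ext z
      simp only [Finset.mem_filter, Finset.mem_erase, Finset.mem_univ, true_and]
      refine ⟨fun ⟨hz, he⟩ => ⟨?_, he ▸ Subgroup.mem_centralizer_singleton_iff.2 rfl⟩,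
        fun ⟨hz1, hz⟩ => hXP x hx z hz hz1⟩
      simp only [X, Finset.mem_filter, Finset.mem_univ, true_and] at hz
      exact hz.1
    rw [e, Finset.card_erase_of_mem (by simp)]
    congr 1
    rw [← Px.card_eq_multiplicity, hPx, Nat.card_eq_fintype_card]
    exact (Fintype.card_subtype _).symm
  have hsum : X.card = Sy.card * (p ^ (Nat.card G).factorization p - 1) := by
    rw [Finset.card_eq_sum_card_fiberwise (f := fun x => Subgroup.centralizer ({x} : Set G)) (t := Sy)
      (fun x hx => Finset.mem_image_of_mem _ hx), Finset.sum_congr rfl hfib, Finset.sum_const,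
      smul_eq_mul]
  have hq : ¬ p ∣ p ^ (Nat.card G).factorization p - 1 := by
    have hpos : 1 ≤ (Nat.card G).factorization p :=
      (hp.dvd_iff_one_le_factorization Nat.card_pos.ne').1 h.mix.pG
    intro hd
    have h2 : p ∣ p ^ (Nat.card G).factorization p := dvd_pow_self p (by omega)
    have h3 := Nat.dvd_sub h2 hd
    rw [Nat.sub_sub_self (Nat.one_le_pow _ _ hp.pos)] at h3
    exact hp.one_lt.ne' (Nat.dvd_one.1 h3)
  have hpSy : p ∣ Sy.card := (hp.dvd_mul.1 (hsum ▸ hpX)).resolve_right hq
  -- `W` is transitive on them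
  let P1 := Subgroup.centralizer ({x₀} : Set G)
  let act : W → Subgroup G := fun w => P1.map (MulAut.conj (w : G)).toMonoidHom
  have hx₀X : x₀ ∈ X := by simp [X, hx₀1, hx₀o, hx₀i]
  have hact : ∀ P, P ∈ Sy ↔ ∃ w : W, act w = P := by
    intro P
    constructor
    · intro hP
      obtain ⟨x, hx, rfl⟩ := Finset.mem_image.1 hP
      simp only [X, Finset.mem_filter, Finset.mem_univ, true_and] at hx
      obtain ⟨Px, hPx⟩ := h.real_sylow hS ht hx.1 hx.2.1 hx.2.2
      obtain ⟨g, hg⟩ := MulAction.exists_smul_eq G P₀ Px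
      have hmemg : ∀ z, z ∈ Subgroup.centralizer ({x} : Set G) ↔ g⁻¹ * z * g ∈ P1 := by
        intro z
        show _ ↔ g⁻¹ * z * g ∈ Subgroup.centralizer ({x₀} : Set G)
        rw [← hPx, ← hg, Sylow.coe_subgroup_smul, Subgroup.mem_pointwise_smul_iff_inv_smul_mem, hP₀]
        simp [MulAut.smul_def]
      -- `t` and its translate invert `P1`
      have hinv0 : ∀ z ∈ P1, t * z * t⁻¹ = z⁻¹ := fun z hz =>
        ((h.real_data hS ht hx₀1 hx₀o hx₀i).2 z (Subgroup.mem_centralizer_singleton_iff.1 hz)).2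
      set t' := g⁻¹ * t * g with ht'
      have hinv1 : ∀ z ∈ P1, t' * z * t'⁻¹ = z⁻¹ := by
        intro z hz
        have hzx : g * z * g⁻¹ ∈ Subgroup.centralizer ({x} : Set G) := by
          rw [hmemg]; simpa [mul_assoc] using hz
        have e := ((h.real_data hS ht hx.1 hx.2.1 hx.2.2).2 _
          (Subgroup.mem_centralizer_singleton_iff.1 hzx)).2
        calc t' * z * t'⁻¹ = g⁻¹ * (t * (g * z * g⁻¹) * t⁻¹) * g := by rw [ht']; group
          _ = z⁻¹ := by rw [e]; group
      have hπ : t * t' ∈ P1 := by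
        have hx₀P : x₀ ∈ P1 := Subgroup.mem_centralizer_singleton_iff.2 rfl
        refine Subgroup.mem_centralizer_singleton_iff.2 ?_
        have e : t * t' * x₀ * (t * t')⁻¹ = x₀ := by
          calc t * t' * x₀ * (t * t')⁻¹ = t * (t' * x₀ * t'⁻¹) * t⁻¹ := by group
            _ = (t * x₀ * t⁻¹)⁻¹ := by rw [hinv1 x₀ hx₀P]; group
            _ = x₀ := by rw [hinv0 x₀ hx₀P, inv_inv]
        exact mul_inv_eq_iff_eq_mul.1 e
      obtain ⟨j, hj⟩ : ∃ j : ℕ, ((t * t') ^ j) * ((t * t') ^ j) = t * t' := by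
        obtain ⟨i, hi⟩ := IsP.of_mem P₀.2 (hP₀ ▸ hπ : t * t' ∈ (P₀ : Subgroup G))
        obtain ⟨j, hj⟩ : Odd (orderOf (t * t')) := by rw [hi]; exact (hp.odd_of_ne_two h.p_ne).pow
        refine ⟨j + 1, ?_⟩
        rw [← pow_add, show j + 1 + (j + 1) = orderOf (t * t') + 1 by omega, pow_succ,
          pow_orderOf_eq_one, one_mul]
      set ρ := (t * t') ^ j with hρ
      have hρP : ρ ∈ P1 := pow_mem hπ j
      have hρt : ρ⁻¹ * t * ρ = t' := by
        have h1 : t * ρ = ρ⁻¹ * t := by
          rw [← hinv0 ρ hρP, inv_mul_cancel_right]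
        calc ρ⁻¹ * t * ρ = ρ⁻¹ * (t * ρ) := mul_assoc _ _ _
          _ = (ρ * ρ)⁻¹ * t := by rw [h1]; group
          _ = (t * t')⁻¹ * t := by rw [hj]
          _ = t'⁻¹ := by group
          _ = t' := by rw [ht', mul_inv_rev, mul_inv_rev, inv_inv, hti, mul_assoc]
      refine ⟨⟨g * ρ⁻¹, (hCt _).1 ?_⟩, ?_⟩
      · show g * ρ⁻¹ * t = t * (g * ρ⁻¹)
        calc g * ρ⁻¹ * t = g * (ρ⁻¹ * t * ρ) * ρ⁻¹ := by group
          _ = t * (g * ρ⁻¹) := by rw [hρt, ht']; group
      · ext z
        rw [hmemg]
        show z ∈ P1.map (MulAut.conj (g * ρ⁻¹)).toMonoidHom ↔ _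
        constructor
        · rintro ⟨c, hc, rfl⟩
          have e : g⁻¹ * (MulAut.conj (g * ρ⁻¹)).toMonoidHom c * g = ρ⁻¹ * c * ρ := by
            simp [mul_assoc]
          rw [e]
          exact mul_mem (mul_mem (inv_mem hρP) hc) hρP
        · intro hz
          exact ⟨ρ * (g⁻¹ * z * g) * ρ⁻¹, mul_mem (mul_mem hρP hz) (inv_mem hρP), by simp [mul_assoc]⟩
    · rintro ⟨w, rfl⟩
      have hw : Commute (w : G) t := (hCt _).2 w.2
      refine Finset.mem_image.2 ⟨(w : G) * x₀ * (w : G)⁻¹, ?_, ?_⟩
      · simp only [X, Finset.mem_filter, Finset.mem_univ, true_and]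
        refine ⟨fun e => hx₀1 (conj_eq_one_iff.1 e), by
          rwa [Involutions.Basic.orderOf_conj_eq], ?_⟩
        calc t * ((w : G) * x₀ * (w : G)⁻¹) * t⁻¹ = (t * w) * x₀ * (t * (w : G))⁻¹ := by group
          _ = ((w : G) * x₀ * (w : G)⁻¹)⁻¹ := by
            rw [← hw.eq]
            calc (w : G) * t * x₀ * ((w : G) * t)⁻¹ = (w : G) * (t * x₀ * t⁻¹) * (w : G)⁻¹ := by group
              _ = _ := by rw [hx₀i]; group
      · ext z
        rw [Subgroup.mem_centralizer_singleton_iff]
        constructor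
        · intro hz
          refine ⟨(w : G)⁻¹ * z * w, Subgroup.mem_centralizer_singleton_iff.2 ?_, by simp [mul_assoc]⟩
          calc (w : G)⁻¹ * z * w * x₀ = (w : G)⁻¹ * (z * ((w : G) * x₀ * (w : G)⁻¹)) * w := by group
            _ = x₀ * ((w : G)⁻¹ * z * w) := by rw [hz]; group
        · rintro ⟨c, hc, rfl⟩
          have e := Subgroup.mem_centralizer_singleton_iff.1 hc
          show (w : G) * c * (w : G)⁻¹ * ((w : G) * x₀ * (w : G)⁻¹) = _
          calc (w : G) * c * (w : G)⁻¹ * ((w : G) * x₀ * (w : G)⁻¹) = (w : G) * (c * x₀) * (w : G)⁻¹ := by group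
            _ = _ := by rw [e]; simp [mul_assoc]
  let St : Subgroup W :=
    { carrier := {w | act w = P1}
      one_mem' := by
        show P1.map (MulAut.conj ((1 : W) : G)).toMonoidHom = P1
        rw [OneMemClass.coe_one, map_one]
        exact Subgroup.map_id _
      mul_mem' := fun {u v} hu hv => by
        show P1.map (MulAut.conj ((u * v : W) : G)).toMonoidHom = P1
        have e : (MulAut.conj ((u * v : W) : G)).toMonoidHom =
            ((MulAut.conj (u : G)).toMonoidHom).comp (MulAut.conj (v : G)).toMonoidHom := by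
          ext z; simp [mul_assoc]
        rw [e, ← Subgroup.map_map, show P1.map (MulAut.conj (v : G)).toMonoidHom = P1 from hv]
        exact hu
      inv_mem' := fun {u} hu => by
        show P1.map (MulAut.conj ((u⁻¹ : W) : G)).toMonoidHom = P1
        conv_lhs => rw [← show P1.map (MulAut.conj (u : G)).toMonoidHom = P1 from hu]
        rw [Subgroup.map_map]
        convert Subgroup.map_id P1 using 2
        ext z; simp [mul_assoc] }
  have hSy : Sy.card = St.index := by
    have hker : ∀ u v : W, act u = act v ↔ u⁻¹ * v ∈ St := by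
      intro u v
      have hinj := Subgroup.map_injective (f := (MulAut.conj (u : G)).toMonoidHom)
        (MulAut.conj (u : G)).injective
      have e : act v = (act (u⁻¹ * v)).map (MulAut.conj (u : G)).toMonoidHom := by
        show P1.map (MulAut.conj (v : G)).toMonoidHom =
          (P1.map (MulAut.conj ((u⁻¹ * v : W) : G)).toMonoidHom).map (MulAut.conj (u : G)).toMonoidHom
        rw [Subgroup.map_map]
        congr 1
        ext z; simp [mul_assoc]
      rw [e]
      exact ⟨fun he => (hinj he).symm, fun he => by rw [show act (u⁻¹ * v) = P1 from he]⟩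
    let F : W ⧸ St → {P // P ∈ Sy} := Quotient.lift (fun w => ⟨act w, (hact _).2 ⟨w, rfl⟩⟩)
      fun u v huv => Subtype.ext ((hker u v).2 (QuotientGroup.leftRel_apply.1 huv))
    have hF : Function.Bijective F := by
      constructor
      · rintro ⟨u⟩ ⟨v⟩ huv
        exact Quotient.sound (QuotientGroup.leftRel_apply.2 ((hker u v).1 (congrArg Subtype.val huv)))
      · rintro ⟨P, hP⟩
        obtain ⟨w, hw⟩ := (hact P).1 hP
        exact ⟨Quotient.mk _ w, Subtype.ext hw⟩
    rw [Subgroup.index_eq_card, Nat.card_congr (Equiv.ofBijective F hF), Nat.card_eq_finsetCard]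
  have hd : p ∣ 2 ^ a := by
    rw [← hW]
    exact (hSy ▸ hpSy).trans (Subgroup.index_dvd_card St)
  exact h.p_ne ((Nat.prime_dvd_prime_iff_eq hp Nat.prime_two).1 (hp.dvd_of_dvd_pow hd))

end Crit

end Cfsg.Agent.Lib.MixedPQ
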