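import Cfsg.Agent.Lib.MixedPQ.Basic
import Cfsg.Agent.Lib.Induced.Burnside
import Cfsg.Agent.Lib.SylowInter.Basic
import Cfsg.Agent.Lib.Involutions.Basic

/-!
# The extremal case `p + 1 = 2 ^ a`: centralisers of involutions

A minimal counterexample has elementary abelian Sylow `2`-subgroups `W`, permuted transitively by a
`p`-element, with `C(W) = W` up to `2`-parts.  Owner: helper31.
-/

set_option autoImplicit false
set_option linter.unusedSectionVars false
set_option linter.style.haveILetI false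

namespace Cfsg.Agent.Lib.MixedPQ

open Cfsg.Agent.Lib.Involutions.Basic

variable {G : Type*} [Group G] [Finite G] {p a : ℕ}

/-- A minimal counterexample with `p + 1 = |G|₂ = 2 ^ a` and abelian Sylow `p`-subgroups. -/
structure Crit (p a : ℕ) (G : Type*) [Group G] : Prop where
  mix : Mix p 2 G
  pprime : p.Prime
  p_ne : p ≠ 2
  two : (Nat.card G).factorization 2 = a
  hpa : p + 1 = 2 ^ a
  ab : ∀ P : Subgroup G, IsPGroup p P → ∀ x ∈ P, ∀ y ∈ P, Commute x y
  sub : ∀ L : Subgroup G, L ≠ ⊤ → 2 ^ a ∣ Nat.card L → p ∣ Nat.card L →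
    ∀ r : ℕ, r.Prime → r ∣ Nat.card L → r = p ∨ r = 2
  bad : ∃ r : ℕ, r.Prime ∧ r ≠ p ∧ r ≠ 2 ∧ r ∣ Nat.card G

theorem IsP.eq_one_of_dvd {x : G} (hx : IsP p x) (hp : p.Prime) (hp2 : p ≠ 2) {n : ℕ}
    (hd : orderOf x ∣ 2 ^ n) : x = 1 := by
  obtain ⟨i, hi⟩ := hx
  rw [← orderOf_eq_one_iff]
  exact Nat.eq_one_of_dvd_coprimes (((Nat.coprime_primes hp Nat.prime_two).2 hp2).pow i n) hi.dvd hd

theorem IsP.odd {x : G} (hx : IsP p x) (hp : p.Prime) (hp2 : p ≠ 2) : Odd (orderOf x) := by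
  obtain ⟨i, hi⟩ := hx
  rw [hi]
  exact (hp.odd_of_ne_two hp2).pow

theorem inter_eq_one (hp : p.Prime) (hp2 : p ≠ 2) {W : Subgroup G} {n : ℕ}
    (hW : Nat.card W = 2 ^ n) {x : G} (hx : IsP p x) (hxW : x ∈ W) : x = 1 := by
  refine hx.eq_one_of_dvd hp hp2 (n := n) ?_
  rw [← hW]
  exact Subgroup.orderOf_dvd_natCard W hxW

theorem mem_normalizer_of {W : Subgroup G} {g : G} (hg : ∀ x ∈ W, g * x * g⁻¹ ∈ W) :
    g ∈ Subgroup.normalizer (W : Set G) := by
  rw [Subgroup.mem_normalizer_iff_map_conj_eq]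
  refine Subgroup.eq_of_le_of_card_ge ?_
    (Subgroup.card_map_of_injective (MulEquiv.injective (MulAut.conj g))).ge
  rintro _ ⟨x, hx, rfl⟩
  exact hg x hx

theorem mem_normalizer_of_centralizer {W : Subgroup G} {g : G}
    (hg : g ∈ Subgroup.centralizer (W : Set G)) : g ∈ Subgroup.normalizer (W : Set G) :=
  mem_normalizer_of fun x hx => by
    rw [← Subgroup.mem_centralizer_iff.1 hg x hx, mul_inv_cancel_right]; exact hx

namespace Crit

variable (h : Crit p a G)
include h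

theorem two_le : 2 ≤ a := by
  have h2 := h.pprime.two_le
  have h3 := h.p_ne
  have h4 := h.hpa
  by_contra hlt
  have : 2 ^ a ≤ 2 ^ 1 := Nat.pow_le_pow_right (by norm_num) (by omega)
  omega

theorem one_lt_two_pow : 1 < 2 ^ a := Nat.one_lt_pow (by have := h.two_le; omega) (by norm_num)

theorem two_pow_dvd : 2 ^ a ∣ Nat.card G := h.two ▸ Nat.ordProj_dvd _ _

theorem exists_full_ge {V : Subgroup G} (hV : IsPGroup 2 V) :
    ∃ W : Subgroup G, Nat.card W = 2 ^ a ∧ V ≤ W := by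
  haveI := Fact.mk Nat.prime_two
  obtain ⟨S, hS⟩ := hV.exists_le_sylow
  exact ⟨S, by rw [S.card_eq_multiplicity, h.two], hS⟩

theorem exists_full : ∃ W : Subgroup G, Nat.card W = 2 ^ a :=
  let ⟨W, hW, _⟩ := h.exists_full_ge (IsPGroup.of_bot (p := 2))
  ⟨W, hW⟩

theorem card_le_of_twoGroup {V : Subgroup G} (hV : IsPGroup 2 V) : Nat.card V ≤ 2 ^ a := by
  obtain ⟨W, hW, hVW⟩ := h.exists_full_ge hV
  exact hW ▸ Subgroup.card_le_of_le hVW

theorem full_conj {W W' : Subgroup G} (hW : Nat.card W = 2 ^ a) (hW' : Nat.card W' = 2 ^ a) :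
    ∃ g : G, ∀ x : G, x ∈ W' ↔ g⁻¹ * x * g ∈ W := by
  haveI := Fact.mk Nat.prime_two
  let S : Sylow 2 G := Sylow.ofCard W (by rw [hW, h.two])
  let S' : Sylow 2 G := Sylow.ofCard W' (by rw [hW', h.two])
  obtain ⟨g, hg⟩ := MulAction.exists_smul_eq G S S'
  refine ⟨g, fun x => ?_⟩
  show x ∈ ((S' : Sylow 2 G) : Subgroup G) ↔ _
  rw [← hg, Sylow.coe_subgroup_smul, Subgroup.mem_pointwise_smul_iff_inv_smul_mem]
  simp [MulAut.smul_def, S]

theorem factorization_eq {L : Subgroup G} (hL : 2 ^ a ∣ Nat.card L) :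
    (Nat.card L).factorization 2 = a := by
  refine le_antisymm ?_ ((Nat.prime_two.pow_dvd_iff_le_factorization Nat.card_pos.ne').1 hL)
  rw [← h.two]
  exact (Nat.factorization_le_iff_dvd Nat.card_pos.ne' Nat.card_pos.ne').2
    (Subgroup.card_subgroup_dvd_card L) 2

theorem exists_action : ∀ {W : Subgroup G}, Nat.card W = 2 ^ a → ∃ y : G, IsP p y ∧
    y ∈ Subgroup.normalizer (W : Set G) ∧
    ∀ v ∈ W, v ≠ 1 → ∀ w ∈ W, w ≠ 1 → ∃ i : ℤ, y ^ i * v * (y ^ i)⁻¹ = w := by
  classical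
  haveI := Fact.mk Nat.prime_two
  have hp := h.pprime
  obtain ⟨r, hr, hrp, hr2, hrG⟩ := h.bad
  have h2G : 2 ∣ Nat.card G := (dvd_pow_self 2 (by have := h.two_le; omega)).trans h.two_pow_dvd
  by_contra hne
  push Not at hne
  obtain ⟨W, hW, hno⟩ := hne
  have hex : ∃ W₀ : Subgroup G, IsPGroup 2 W₀ ∧ ∃ y : G, IsP p y ∧
      y ∈ Subgroup.normalizer (W₀ : Set G) ∧ ∃ w ∈ W₀, y * w * y⁻¹ ≠ w := by
    by_contra hh
    push Not at hh
    rcases h.mix.pq_of_centralizes hp Nat.prime_two h.p_ne h2G (fun V hV x hx hxV => by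
      rw [Subgroup.mem_centralizer_iff]
      exact fun v hv => (mul_inv_eq_iff_eq_mul.1 (hh V hV x hx hxV v hv)).symm) r hr hrG with e | e
    · exact hrp e
    · exact hr2 e
  obtain ⟨W₀, hW₀, y, hy, hyW, w, hw, hmv⟩ := hex
  obtain ⟨hb, horb⟩ := orbit_bound hp hy hyW hw hmv
  have hW₀c : Nat.card W₀ = 2 ^ a :=
    le_antisymm (h.card_le_of_twoGroup hW₀) (h.hpa ▸ hb)
  have hzorb : ∀ v ∈ W₀, v ≠ 1 → ∃ i : ℤ, y ^ i * w * (y ^ i)⁻¹ = v := fun v hv hv1 => by
    obtain ⟨i, hi⟩ := horb (by rw [hW₀c, h.hpa]) v hv hv1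
    exact ⟨i, by simpa using hi⟩
  obtain ⟨g, hg⟩ := h.full_conj hW₀c hW
  have hgy : g * y * g⁻¹ ∈ Subgroup.normalizer (W : Set G) := by
    refine mem_normalizer_of fun x hx => ?_
    rw [hg] at hx ⊢
    have h1 := (Subgroup.mem_normalizer_iff.1 hyW _).1 hx
    have e : g⁻¹ * (g * y * g⁻¹ * x * (g * y * g⁻¹)⁻¹) * g = y * (g⁻¹ * x * g) * y⁻¹ := by group
    rw [e]
    exact h1
  obtain ⟨v₀, hv, hv1, w₀, hw₀, hw1, hn⟩ := hno _ (hy.conj g) hgy
  rw [hg] at hv hw₀
  obtain ⟨i, hi⟩ := hzorb _ hv (fun e => hv1 (by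
    have := congrArg (fun z => g * z * g⁻¹) e; simpa [mul_assoc] using this))
  obtain ⟨j, hj⟩ := hzorb _ hw₀ (fun e => hw1 (by
    have := congrArg (fun z => g * z * g⁻¹) e; simpa [mul_assoc] using this))
  refine hn (j - i) ?_
  have hv0 : v₀ = g * (y ^ i * w * (y ^ i)⁻¹) * g⁻¹ := by rw [hi]; group
  have hw0 : w₀ = g * (y ^ j * w * (y ^ j)⁻¹) * g⁻¹ := by rw [hj]; group
  rw [conj_zpow, hv0, hw0, zpow_sub]
  group

theorem full_sq {W : Subgroup G} (hW : Nat.card W = 2 ^ a) {w : G} (hw : w ∈ W) : w * w = 1 := by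
  haveI := Fact.mk Nat.prime_two
  obtain ⟨y, -, -, htr⟩ := h.exists_action hW
  obtain ⟨t, ht⟩ := exists_prime_orderOf_dvd_card' (G := W) 2
    (hW ▸ dvd_pow_self 2 (by have := h.two_le; omega))
  rcases eq_or_ne w 1 with rfl | hw1
  · simp
  have ht1 : (t : G) ≠ 1 := by
    intro e
    rw [← Subgroup.orderOf_coe, e, orderOf_one] at ht
    omega
  obtain ⟨i, hi⟩ := htr t t.2 ht1 w hw hw1
  rw [← hi]
  refine (invol_mul_self ?_)
  rw [Involutions.Basic.orderOf_conj_eq, Subgroup.orderOf_coe, ht]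

theorem full_invol {W : Subgroup G} (hW : Nat.card W = 2 ^ a) {w : G} (hw : w ∈ W) (hw1 : w ≠ 1) :
    orderOf w = 2 := invol_iff.2 ⟨h.full_sq hW hw, hw1⟩

theorem full_comm {W : Subgroup G} (hW : Nat.card W = 2 ^ a) {v w : G} (hv : v ∈ W) (hw : w ∈ W) :
    Commute v w := by
  have e := h.full_sq hW (mul_mem hv hw)
  have e1 := eq_inv_of_mul_eq_one_left (h.full_sq hW hv)
  have e2 := eq_inv_of_mul_eq_one_left (h.full_sq hW hw)
  show v * w = w * v
  calc v * w = (v * w)⁻¹ := eq_inv_of_mul_eq_one_left e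
    _ = w * v := by rw [mul_inv_rev, ← e1, ← e2]

theorem isConj_invol {u v : G} (hu : orderOf u = 2) (hv : orderOf v = 2) : IsConj u v := by
  obtain ⟨U, hU, hle⟩ := h.exists_full_ge
    (IsPGroup.of_card (n := 1) (by rw [Nat.card_zpowers, hu, pow_one] : Nat.card (Subgroup.zpowers u) = _))
  obtain ⟨V, hV, hle'⟩ := h.exists_full_ge
    (IsPGroup.of_card (n := 1) (by rw [Nat.card_zpowers, hv, pow_one] : Nat.card (Subgroup.zpowers v) = _))
  obtain ⟨g, hg⟩ := h.full_conj hU hV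
  obtain ⟨y, -, -, htr⟩ := h.exists_action hU
  have h1 := (hg v).1 (hle' (Subgroup.mem_zpowers v))
  have h2 : g⁻¹ * v * g ≠ 1 := fun e => invol_ne_one hv (by
    have := congrArg (fun z => g * z * g⁻¹) e; simpa [mul_assoc] using this)
  obtain ⟨i, hi⟩ := htr u (hle (Subgroup.mem_zpowers u)) (invol_ne_one hu) _ h1 h2
  refine isConj_iff.2 ⟨g * y ^ i, ?_⟩
  calc g * y ^ i * u * (g * y ^ i)⁻¹ = g * (y ^ i * u * (y ^ i)⁻¹) * g⁻¹ := by group
    _ = v := by rw [hi]; group

/-- A `p`-element normalising a `2`-subgroup and fixing a non-trivial element centralises it. -/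
theorem fix_centralizes {V : Subgroup G} (hV : IsPGroup 2 V) {x : G} (hx : IsP p x)
    (hxV : x ∈ Subgroup.normalizer (V : Set G)) {v : G} (hv : v ∈ V) (hv1 : v ≠ 1)
    (hfix : Commute x v) : x ∈ Subgroup.centralizer (V : Set G) := by
  rw [Subgroup.mem_centralizer_iff]
  intro w hw
  by_contra hne
  have hne' : x * w * x⁻¹ ≠ w := fun e => hne (mul_inv_eq_iff_eq_mul.1 e).symm
  obtain ⟨hb, horb⟩ := orbit_bound h.pprime hx hxV hw hne'
  obtain ⟨i, hi⟩ := horb (le_antisymm (h.hpa ▸ h.card_le_of_twoGroup hV) hb) v hv hv1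
  have hc : Commute (x ^ i) v := hfix.pow_left i
  have hwv : w = v := by
    calc w = (x ^ i)⁻¹ * (x ^ i * w * (x ^ i)⁻¹) * x ^ i := by group
      _ = (x ^ i)⁻¹ * (v * x ^ i) := by rw [hi, mul_assoc]
      _ = v := by rw [← hc.eq, inv_mul_cancel_left]
  exact hne (hwv ▸ hfix.eq.symm)

theorem small_centralizes {V : Subgroup G} (hV : Nat.card V < 2 ^ a) {x : G} (hx : IsP p x)
    (hxV : x ∈ Subgroup.normalizer (V : Set G)) : x ∈ Subgroup.centralizer (V : Set G) := by
  rw [Subgroup.mem_centralizer_iff]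
  intro w hw
  by_contra hne
  have hne' : x * w * x⁻¹ ≠ w := fun e => hne (mul_inv_eq_iff_eq_mul.1 e).symm
  have := (orbit_bound h.pprime hx hxV hw hne').1
  have := h.hpa
  omega

theorem isP_of_commute {t g : G} (ht : orderOf t = 2) (hg : Commute g t) (hodd : Odd (orderOf g)) :
    IsP p g := by
  refine h.mix.isP_of_normalize h.pprime Nat.prime_two h.p_ne
    (IsPGroup.of_card (n := 1) (by rw [Nat.card_zpowers, ht, pow_one] : Nat.card (Subgroup.zpowers t) = _))
    (fun e => invol_ne_one ht (Subgroup.zpowers_eq_bot.1 e)) (x := g) ?_ hodd.coprime_two_right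
  refine mem_normalizer_of fun x hx => ?_
  obtain ⟨i, rfl⟩ := Subgroup.mem_zpowers_iff.1 hx
  rw [(hg.zpow_right i).eq, mul_inv_cancel_right]
  exact hx

/-- The centraliser of an involution: `p`-elements form a normal subgroup `M`, supplemented by `W`. -/
theorem exists_centralizer_data {t : G} (ht : orderOf t = 2) :
    ∃ M : Subgroup G, IsPGroup p M ∧ (∀ x : G, x ∈ M ↔ IsP p x ∧ Commute x t) ∧
      (∀ g : G, Commute g t → ∀ m ∈ M, g * m * g⁻¹ ∈ M) ∧
      ∀ W : Subgroup G, Nat.card W = 2 ^ a → t ∈ W → ∀ g : G, Commute g t →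
        ∃ m ∈ M, ∃ w ∈ W, g = m * w := by
  haveI := Fact.mk h.pprime
  haveI := Fact.mk Nat.prime_two
  set L := Subgroup.centralizer ({t} : Set G) with hL
  have htL : t ∈ L := Subgroup.mem_centralizer_singleton_iff.2 rfl
  have hmem : ∀ g, g ∈ L ↔ Commute g t := fun g => Subgroup.mem_centralizer_singleton_iff
  have h2L : 2 ∣ Nat.card L := ht ▸ Subgroup.orderOf_dvd_natCard L htL
  obtain ⟨M, hML, hM, hall, hnorm, hdec⟩ := h.mix.exists_complement h.pprime Nat.prime_two h.p_ne L h2L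
    (fun V hVL hV x hx hxP hxV => by
      by_cases hlt : Nat.card V < 2 ^ a
      · exact h.small_centralizes hlt hxP hxV
      have htp : IsPGroup 2 (Subgroup.zpowers t) :=
        IsPGroup.of_card (n := 1) (by rw [Nat.card_zpowers, ht, pow_one])
      have hsup : IsPGroup 2 (Subgroup.zpowers t ⊔ V : Subgroup G) :=
        IsPGroup.to_sup_of_normal_right' htp hV (Subgroup.zpowers_le.2 (mem_normalizer_of
          fun z hz => by rw [((hmem z).1 (hVL hz)).symm.eq, mul_inv_cancel_right]; exact hz))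
      have heq : V = Subgroup.zpowers t ⊔ V := Subgroup.eq_of_le_of_card_ge le_sup_right
        ((h.card_le_of_twoGroup hsup).trans (not_lt.1 hlt))
      have htV : t ∈ V := heq ▸ Subgroup.mem_sup_left (Subgroup.mem_zpowers t)
      exact h.fix_centralizes hV hxP hxV htV (invol_ne_one ht) ((hmem x).1 hx))
  refine ⟨M, hM, fun x => ⟨fun hx => ⟨IsP.of_mem hM hx, (hmem x).1 (hML hx)⟩,
    fun hx => hall x ((hmem x).2 hx.2) hx.1⟩, fun g hg => hnorm g ((hmem g).2 hg), ?_⟩
  intro W hW htW g hg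
  have hWL : W ≤ L := fun w hw => (hmem w).2 (h.full_comm hW hw htW)
  exact hdec W hWL (by rw [hW, h.factorization_eq (hW ▸ Subgroup.card_dvd_of_le hWL)]) g
    ((hmem g).2 hg)

theorem comm_of_commute_invol {t x y : G} (ht : orderOf t = 2) (hx : IsP p x) (hxt : Commute x t)
    (hy : IsP p y) (hyt : Commute y t) : Commute x y := by
  obtain ⟨M, hM, hmem, -⟩ := h.exists_centralizer_data ht
  exact h.ab M hM x ((hmem x).2 ⟨hx, hxt⟩) y ((hmem y).2 ⟨hy, hyt⟩)

/-- A `p`-element `k ≠ 1` is not central. -/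
theorem not_central {k : G} (hk : IsP p k) (hk1 : k ≠ 1) : ∃ g : G, ¬ Commute g k := by
  by_contra hc
  push Not at hc
  haveI := Fact.mk h.pprime
  obtain ⟨P⟩ : Nonempty (Sylow p G) := inferInstance
  let _ : CommGroup (P : Subgroup G) :=
    { (inferInstance : Group (P : Subgroup G)) with
      mul_comm := fun u v => Subtype.ext (h.ab P P.2 u u.2 v v.2) }
  set φ := MonoidHom.transfer (MonoidHom.id (P : Subgroup G)) with hφ
  have key : ∀ (j : ℕ) (g₀ : G), g₀⁻¹ * k ^ j * g₀ ∈ (P : Subgroup G) →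
      g₀⁻¹ * k ^ j * g₀ = k ^ j := fun j g₀ _ => by
    rw [mul_assoc, ((hc g₀).pow_right j).symm.eq, inv_mul_cancel_left]
  have hφk : φ k ≠ 1 := by
    rw [hφ, MonoidHom.transfer_eq_pow _ k key]
    intro e
    have e' : k ^ (P : Subgroup G).index = 1 := congrArg Subtype.val e
    have hd := orderOf_dvd_of_pow_eq_one e'
    obtain ⟨i, hi⟩ := hk
    rw [hi] at hd
    rcases Nat.eq_zero_or_pos i with rfl | hi0
    · exact hk1 (orderOf_eq_one_iff.1 (by simpa using hi))
    · exact P.not_dvd_index ((dvd_pow_self p hi0.ne').trans hd)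
  have hker : ∀ x : G, (orderOf x).Coprime p → x ∈ φ.ker := fun x hx => by
    rw [MonoidHom.mem_ker, ← orderOf_eq_one_iff]
    obtain ⟨i, hi⟩ := IsPGroup.iff_orderOf.1 P.2 (φ x)
    exact Nat.eq_one_of_dvd_coprimes (hx.pow_right i) (orderOf_map_dvd φ x) hi.dvd
  have htop : φ.ker ≠ ⊤ := fun e => hφk (by
    rw [← MonoidHom.mem_ker, e]; trivial)
  obtain ⟨W, hW⟩ := h.exists_full
  have hWker : W ≤ φ.ker := fun w hw => hker w (by
    have hd : orderOf w ∣ 2 ^ a := by
      rw [← hW]; exact Subgroup.orderOf_dvd_natCard W hw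
    exact Nat.Coprime.coprime_dvd_left hd
      (((Nat.coprime_primes Nat.prime_two h.pprime).2 h.p_ne.symm).pow_left a))
  have h2k : 2 ^ a ∣ Nat.card φ.ker := hW ▸ Subgroup.card_dvd_of_le hWker
  obtain ⟨r, hr, hrp, hr2, hrG⟩ := h.bad
  haveI := Fact.mk hr
  obtain ⟨x, hx⟩ := exists_prime_orderOf_dvd_card' r hrG
  have hrk : r ∣ Nat.card φ.ker := hx ▸ Subgroup.orderOf_dvd_natCard _
    (hker x (hx ▸ (Nat.coprime_primes hr h.pprime).2 hrp))
  have hpk : p ∣ Nat.card φ.ker := by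
    by_contra hpk
    exact h.mix.false_of_subgroup h.pprime Nat.prime_two h.p_ne hpk
      ((dvd_pow_self 2 (by have := h.two_le; omega)).trans h2k) hr hr2 hrk
  rcases h.sub _ htop h2k hpk r hr hrk with e | e
  · exact hrp e
  · exact hr2 e

/-- The centraliser of a `p`-element centralising a Sylow `2`-subgroup normalises it. -/
theorem centralizer_le_normalizer {W : Subgroup G} (hW : Nat.card W = 2 ^ a) {k : G} (hk : IsP p k)
    (hk1 : k ≠ 1) (hkW : k ∈ Subgroup.centralizer (W : Set G)) {g : G} (hg : Commute g k) :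
    g ∈ Subgroup.normalizer (W : Set G) := by
  haveI := Fact.mk h.pprime
  haveI := Fact.mk Nat.prime_two
  obtain ⟨y, hy, hyW, htr⟩ := h.exists_action hW
  obtain ⟨t, ht⟩ := exists_prime_orderOf_dvd_card' (G := W) 2
    (hW ▸ dvd_pow_self 2 (by have := h.two_le; omega))
  have ht' : orderOf (t : G) = 2 := by rw [Subgroup.orderOf_coe, ht]
  obtain ⟨M, hM, hmem, -⟩ := h.exists_centralizer_data ht'
  -- `y` commutes with `k`
  have hyk : Commute y k := by
    set K := M ⊓ Subgroup.centralizer (W : Set G) with hKdef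
    have hkK : k ∈ K :=
      ⟨(hmem k).2 ⟨hk, (Subgroup.mem_centralizer_iff.1 hkW t t.2).symm⟩, hkW⟩
    have hyK : y ∈ Subgroup.normalizer (K : Set G) := by
      refine mem_normalizer_of fun m hm => ?_
      have hc : y * m * y⁻¹ ∈ Subgroup.centralizer (W : Set G) := by
        rw [Subgroup.mem_centralizer_iff]
        intro w hw
        have hw' := (Subgroup.mem_normalizer_iff''.1 hyW w).1 hw
        have e := Subgroup.mem_centralizer_iff.1 hm.2 _ hw'
        calc w * (y * m * y⁻¹) = y * ((y⁻¹ * w * y) * m) * y⁻¹ := by group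
          _ = y * (m * (y⁻¹ * w * y)) * y⁻¹ := by rw [e]
          _ = y * m * y⁻¹ * w := by group
      exact ⟨(hmem _).2 ⟨((hmem m).1 hm.1).1.conj y, (Subgroup.mem_centralizer_iff.1 hc t t.2).symm⟩, hc⟩
    have hsup : IsPGroup p (Subgroup.zpowers y ⊔ K : Subgroup G) :=
      IsPGroup.to_sup_of_normal_right' hy.isPGroup_zpowers (hM.to_le inf_le_left)
        (Subgroup.zpowers_le.2 hyK)
    exact h.ab _ hsup y (Subgroup.mem_sup_left (Subgroup.mem_zpowers y)) k (Subgroup.mem_sup_right hkK)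
  set L := Subgroup.centralizer ({k} : Set G) with hL
  have hmemL : ∀ x, x ∈ L ↔ Commute x k := fun x => Subgroup.mem_centralizer_singleton_iff
  have hLtop : L ≠ ⊤ := by
    obtain ⟨x, hx⟩ := h.not_central hk hk1
    exact fun e => hx ((hmemL x).1 (e ▸ trivial))
  have hWL : W ≤ L := fun w hw => (hmemL w).2 (Subgroup.mem_centralizer_iff.1 hkW w hw)
  have hpL : p ∣ Nat.card L := by
    obtain ⟨i, hi⟩ := hk
    rcases Nat.eq_zero_or_pos i with rfl | hi0
    · exact absurd (orderOf_eq_one_iff.1 (by simpa using hi)) hk1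
    · exact ((dvd_pow_self p hi0.ne').trans hi.symm.dvd).trans
        (Subgroup.orderOf_dvd_natCard L ((hmemL k).2 (Commute.refl k)))
  have hprimes := h.sub L hLtop (hW ▸ Subgroup.card_dvd_of_le hWL) hpL
  have hyL : y ∈ L := (hmemL y).2 hyk
  have hgL : g ∈ L := (hmemL g).2 hg
  haveI : Group.IsSolvable L := by
    refine Induced.Burnside.isSolvable_of_card_eq p 2 ((Nat.card L).factorization p)
      ((Nat.card L).factorization 2) h.pprime Nat.prime_two ?_
    refine Nat.eq_of_factorization_eq Nat.card_pos.ne' ?_ fun s => ?_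
    · exact mul_ne_zero (pow_ne_zero _ h.pprime.ne_zero) (pow_ne_zero _ two_ne_zero)
    rw [Nat.factorization_mul (pow_ne_zero _ h.pprime.ne_zero) (pow_ne_zero _ two_ne_zero),
      Finsupp.add_apply, h.pprime.factorization_pow, Nat.prime_two.factorization_pow,
      Finsupp.single_apply, Finsupp.single_apply]
    rcases eq_or_ne p s with rfl | hps
    · simp [h.p_ne.symm]
    rcases eq_or_ne 2 s with rfl | h2s
    · simp [h.p_ne]
    rw [if_neg hps, if_neg h2s, add_zero, Nat.factorization_eq_zero_iff]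
    by_cases hs : s.Prime
    · exact Or.inr (Or.inl fun hd => (hprimes s hs hd).elim (fun e => hps e.symm) (fun e => h2s e.symm))
    · exact Or.inl hs
  set O := Cfsg.pPrimeCore p L with hO
  have hO2 : IsPGroup 2 O := IsPGroup.of_card (Nat.eq_prime_pow_of_unique_prime_dvd Nat.card_pos.ne'
    (fun {s} hs hd => (hprimes s hs (hd.trans (Subgroup.card_subgroup_dvd_card O))).resolve_left
      (fun e => Cores.not_dvd_card_pPrimeCore (G := L) p (by rw [e] at hd; exact hd))))
  set O' := O.map L.subtype with hO'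
  have hOn : ∀ x ∈ L, x ∈ Subgroup.normalizer (O' : Set G) := fun x hx => by
    refine Subgroup.le_normalizer_map L.subtype (H := O) (Subgroup.mem_map_of_mem L.subtype
      (x := (⟨x, hx⟩ : L)) ?_)
    rw [Subgroup.normalizer_eq_top]
    trivial
  by_cases hbot : O = ⊥
  · exfalso
    set R := (Cfsg.pCore p L).map L.subtype with hR
    have hRp : IsPGroup p R := (Cores.pCore_isPGroup p).map _
    have hRn : y ∈ Subgroup.normalizer (R : Set G) := by
      refine Subgroup.le_normalizer_map L.subtype (H := Cfsg.pCore p L) (Subgroup.mem_map_of_mem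
        L.subtype (x := (⟨y, hyL⟩ : L)) ?_)
      rw [Subgroup.normalizer_eq_top]
      trivial
    have hsup : IsPGroup p (Subgroup.zpowers y ⊔ R : Subgroup G) :=
      IsPGroup.to_sup_of_normal_right' hy.isPGroup_zpowers hRp (Subgroup.zpowers_le.2 hRn)
    have hyR : (⟨y, hyL⟩ : L) ∈ Cfsg.pCore p L := by
      refine SylowInter.Basic.centralizer_pCore_le p hbot ?_
      rw [Subgroup.mem_centralizer_iff]
      intro x hx
      exact Subtype.ext (h.ab _ hsup (x : G) (Subgroup.mem_sup_right ⟨x, hx, rfl⟩) y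
        (Subgroup.mem_sup_left (Subgroup.mem_zpowers y))).eq
    have hfix : ∀ w ∈ W, y * w * y⁻¹ = w := by
      intro w hw
      refine mul_inv_eq_one.1 (inter_eq_one h.pprime h.p_ne hW ?_ ?_)
      · refine IsP.of_mem (H := R) hRp ⟨⟨y, hyL⟩ * ((⟨w, hWL hw⟩ : L) * (⟨y, hyL⟩ : L)⁻¹ *
          (⟨w, hWL hw⟩ : L)⁻¹), mul_mem hyR
            ((inferInstance : (Cfsg.pCore p L).Normal).conj_mem _ (inv_mem hyR) _), ?_⟩
        simp only [Subgroup.coe_subtype, Subgroup.coe_mul, InvMemClass.coe_inv]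
        group
      · exact mul_mem ((Subgroup.mem_normalizer_iff.1 hyW w).1 hw) (inv_mem hw)
    have ht1 : (t : G) ≠ 1 := invol_ne_one ht'
    obtain ⟨w, hw, hw1, hwt⟩ : ∃ w ∈ W, w ≠ 1 ∧ w ≠ t := by
      by_contra hh
      push Not at hh
      have hle : Nat.card W ≤ 2 := by
        rw [← Nat.card_zpowers (t : G) |>.trans ht']
        refine Subgroup.card_le_of_le fun w hw => ?_
        rcases eq_or_ne w 1 with rfl | h1
        · exact one_mem _
        · exact hh w hw h1 ▸ Subgroup.mem_zpowers (t : G)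
      rw [hW] at hle
      have : 2 ^ 2 ≤ 2 ^ a := Nat.pow_le_pow_right (by norm_num) h.two_le
      omega
    obtain ⟨i, hi⟩ := htr t t.2 ht1 w hw hw1
    have hc : Commute y (t : G) := mul_inv_eq_iff_eq_mul.1 (hfix t t.2)
    rw [(hc.zpow_left i).eq, mul_inv_cancel_right] at hi
    exact hwt hi.symm
  · have hO'p : IsPGroup 2 O' := hO2.map _
    have hOW : O' ≤ W := by
      have hsup : IsPGroup 2 (W ⊔ O' : Subgroup G) :=
        IsPGroup.to_sup_of_normal_right' (IsPGroup.of_card hW) hO'p fun w hw => hOn w (hWL hw)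
      have := Subgroup.eq_of_le_of_card_ge (le_sup_left : W ≤ W ⊔ O')
        (hW ▸ h.card_le_of_twoGroup hsup)
      rw [this]
      exact le_sup_right
    obtain ⟨o, ho, ho1⟩ : ∃ o ∈ O', o ≠ 1 := by
      by_contra hh
      push Not at hh
      exact hbot ((Subgroup.map_eq_bot_iff_of_injective _ L.subtype_injective).1
        ((Subgroup.eq_bot_iff_forall O').2 hh))
    have hWO : W = O' := by
      refine le_antisymm (fun w hw => ?_) hOW
      rcases eq_or_ne w 1 with rfl | hw1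
      · exact one_mem _
      obtain ⟨i, hi⟩ := htr o (hOW ho) ho1 w hw hw1
      rw [← hi]
      exact (Subgroup.mem_normalizer_iff.1 (hOn _ (zpow_mem hyL i)) o).1 ho
    rw [hWO]
    exact hOn g hgL

end Crit

end Cfsg.Agent.Lib.MixedPQ
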