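import Cfsg.Agent.Lib.MixedPQ.Four

/-!
# Large `p`: a group with `p` dividing its mixed proper `q`-subgroups is a `{p, q}`-group

Owner: helper31.
-/

set_option autoImplicit false
set_option linter.unusedSectionVars false
set_option linter.style.haveILetI false

namespace Cfsg.Agent.Lib.MixedPQ

universe u

variable {p q : ℕ}

theorem Mix.subgroup {G : Type u} [Group G] [Finite G] (h : Mix p q G) (L : Subgroup G)
    (hpL : p ∣ Nat.card L) : Mix p q L where
  pG := hpL
  mix H hH hnq hqH := by
    have hc : Nat.card (H.map L.subtype) = Nat.card H := Subgroup.card_map_of_injective L.subtype_injective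
    rw [← hc]
    refine h.mix _ (fun e => hH ?_) (fun hh => hnq ?_) (hc.symm ▸ hqH)
    · rw [eq_top_iff]
      intro x _
      have : (x : G) ∈ H.map L.subtype := e ▸ trivial
      obtain ⟨y, hy, hyx⟩ := this
      rwa [← Subtype.ext hyx]
    · exact hh.of_equiv (Subgroup.equivMapOfInjective H L.subtype L.subtype_injective).symm

theorem prime_cases (hp : p.Prime) (hq : q.Prime) (hpq : p ≠ q) (hp2 : p ≠ 2) :
    ∀ (n : ℕ) {G : Type u} [Group G] [Finite G], Nat.card G = n → Mix p q G → q ∣ Nat.card G →
      (q ^ (Nat.card G).factorization q - 1 < p ∨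
        (p = q ^ (Nat.card G).factorization q - 1 ∧
          ∀ P : Subgroup G, IsPGroup p P → ∀ x ∈ P, ∀ y ∈ P, Commute x y)) →
      ∀ r : ℕ, r.Prime → r ∣ Nat.card G → r = p ∨ r = q := by
  intro n
  induction n using Nat.strong_induction_on with
  | _ n ih =>
    intro G _ _ hn hmix hqG hlarge r hr hrG
    haveI := Fact.mk hq
    by_contra hbad
    push Not at hbad
    obtain ⟨W, hW, y, hy, hyW, w, hw, hmv⟩ : ∃ W : Subgroup G, IsPGroup q W ∧ ∃ y : G, IsP p y ∧
        y ∈ Subgroup.normalizer (W : Set G) ∧ ∃ w ∈ W, y * w * y⁻¹ ≠ w := by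
      by_contra hh
      push Not at hh
      rcases hmix.pq_of_centralizes hp hq hpq hqG (fun V hV x hx hxV => by
        rw [Subgroup.mem_centralizer_iff]
        exact fun v hv => (mul_inv_eq_iff_eq_mul.1 (hh V hV x hx hxV v hv)).symm) r hr hrG with e | e
      · exact hbad.1 e
      · exact hbad.2 e
    have hb := (orbit_bound hp hy hyW hw hmv).1
    obtain ⟨S, hS⟩ := hW.exists_le_sylow
    have hWle : Nat.card W ≤ q ^ (Nat.card G).factorization q :=
      (Subgroup.card_le_of_le hS).trans S.card_eq_multiplicity.le
    rcases hlarge with hlt | ⟨heq, hab⟩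
    · omega
    have hq2 : q = 2 := by
      by_contra hne
      have h1 : Odd (q ^ (Nat.card G).factorization q) := (hq.odd_of_ne_two hne).pow
      have h2 : Odd p := hp.odd_of_ne_two hp2
      obtain ⟨c, hc⟩ := h1
      obtain ⟨d, hd⟩ := h2
      omega
    subst hq2
    have hone : 1 ≤ 2 ^ (Nat.card G).factorization 2 := Nat.one_le_pow _ _ two_pos
    have hC : Crit p ((Nat.card G).factorization 2) G :=
      { mix := hmix
        pprime := hp
        p_ne := hp2
        two := rfl
        hpa := by omega
        ab := hab
        sub := fun L hL h2L hpL s hs hsL => by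
          have hlt : Nat.card L < n := hn ▸ (lt_of_le_of_ne L.card_le_card_group
            fun e => hL (L.eq_top_of_card_eq e))
          have hfac : (Nat.card L).factorization 2 = (Nat.card G).factorization 2 :=
            le_antisymm ((Nat.factorization_le_iff_dvd Nat.card_pos.ne' Nat.card_pos.ne').2
              L.card_subgroup_dvd_card 2)
              ((Nat.prime_two.pow_dvd_iff_le_factorization Nat.card_pos.ne').1 h2L)
          refine ih _ hlt rfl (hmix.subgroup L hpL) ((dvd_pow_self 2 ?_).trans h2L)
            (Or.inr ⟨by rw [hfac]; exact heq, fun P hP x hx z hz => ?_⟩) s hs hsL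
          · intro e
            have := hp.two_le
            rw [e, pow_zero] at heq
            omega
          · refine Subtype.ext ?_
            exact (hab (P.map L.subtype) (hP.map _) x ⟨x, hx, rfl⟩ z ⟨z, hz, rfl⟩).eq
        bad := ⟨r, hr, hbad.1, hbad.2, hrG⟩ }
    exact hC.false

end Cfsg.Agent.Lib.MixedPQ
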